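import Cfsg.Agent.Lib.Quadratic.TwoGen
import Cfsg.Agent.Lib.PSL2.Basic
import Cfsg.Agent.Lib.PGroup.Basic
import Cfsg.Agent.Lib.Cores.Basic
import Cfsg.Agent.Lib.Coprime.Invariant
import Cfsg.Agent.Lib.Linear.SLn

/-!
# A unipotent element normalising a p'-subgroup of SL₂ (namespace `Cfsg.Agent.Quadratic`)

* `commute_of_conj_commute`: `x` of order prime to `p` commuting with `g x g⁻¹`, `g^p = 1`, is fixed by `g`
* `mem_center_of_commute_upperE`: `p'`-elements centralising a nontrivial unipotent are central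
* `closure_upperE_eq_top`: `SL₂(ZMod 3)` is generated by two elements
* `exists_sl2_three`: a unipotent moving an element of a normalised `p'`-subgroup forces `p = 3` and a
  subgroup isomorphic to `SL₂(3)`
-/

set_option autoImplicit false
set_option linter.unusedSectionVars false

namespace Cfsg.Agent.Quadratic

open Matrix PSL2

variable {K : Type*} [Field K] {p : ℕ} [Fact p.Prime] [CharP K p]

theorem two_ne_zero_char (hp : p ≠ 2) : (2 : K) ≠ 0 := by
  intro h
  have h' : ((2 : ℕ) : K) = 0 := by exact_mod_cast h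
  exact hp ((Nat.prime_dvd_prime_iff_eq Fact.out Nat.prime_two).1 ((CharP.cast_eq_zero_iff K p 2).1 h'))

theorem eq_one_of_tr_two {x : SL2 K} (hx : (orderOf x).Coprime p) (ht : tr x = 2) : x = 1 := by
  have h : x ^ p = 1 := by
    have hsq : (x.1 - 1) * (x.1 - 1) = 0 := by
      rw [sub_mul, mul_sub, one_mul, mul_one, coe_sq, ht, two_smul]
      abel
    have hn : ∀ n : ℕ, x.1 ^ n = 1 + n • (x.1 - 1) := by
      intro n
      induction n with
      | zero => simp
      | succ n ih =>
        rw [pow_succ, ih, succ_nsmul]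
        calc (1 + n • (x.1 - 1)) * x.1
            = (1 + n • (x.1 - 1)) * (1 + (x.1 - 1)) := by rw [add_sub_cancel]
          _ = 1 + (n • (x.1 - 1) + (x.1 - 1)) := by
              rw [mul_add, mul_one, add_mul, one_mul, smul_mul_assoc, hsq, smul_zero, add_zero]
              abel
    apply Subtype.ext
    rw [Matrix.SpecialLinearGroup.coe_pow, hn, ← Nat.cast_smul_eq_nsmul K, CharP.cast_eq_zero,
      zero_smul, add_zero]
    rfl
  exact orderOf_eq_one_iff.1 (Nat.eq_one_of_dvd_coprimes hx dvd_rfl (orderOf_dvd_of_pow_eq_one h))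

theorem sq_eq_one_of_tr_neg_two {x : SL2 K} (hx : (orderOf x).Coprime p) (hp : p ≠ 2)
    (ht : tr x = -2) : x * x = 1 := by
  have hpp : p.Prime := Fact.out
  have hneg : (orderOf (-x)).Coprime p := by
    refine Nat.Coprime.coprime_dvd_left ?_ (Nat.Coprime.mul_left ((Nat.prime_two.coprime_iff_not_dvd).2
      fun h => hp ((Nat.prime_dvd_prime_iff_eq Nat.prime_two hpp).1 h).symm) hx)
    refine orderOf_dvd_of_pow_eq_one ?_
    rw [mul_comm, pow_mul, show (-x) = (-1) * x from (neg_one_mul x).symm,
      (Commute.neg_one_left x).mul_pow, pow_orderOf_eq_one, mul_one, ← pow_mul, mul_comm, pow_mul,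
      neg_one_sq, one_pow]
  have h1 : -x = 1 := eq_one_of_tr_two hneg (by rw [tr_neg, ht, neg_neg])
  rw [← neg_mul_neg, h1, one_mul]

/-- `x` commuting with its conjugate under an element of order dividing `p` is fixed by it. -/
theorem commute_of_conj_commute (hp : p ≠ 2) {x g : SL2 K} (hx : (orderOf x).Coprime p)
    (hg : g ^ p = 1) (hc : Commute x (g * x * g⁻¹)) : g * x * g⁻¹ = x := by
  have h2 := two_ne_zero_char (K := K) hp
  by_cases hxc : x ∈ Subgroup.center (SL2 K)
  · rw [Subgroup.mem_center_iff.1 hxc g, mul_inv_cancel_right]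
  set y := g * x * g⁻¹ with hy
  obtain ⟨α, β, hab⟩ := exists_lin_of_commute hxc (congrArg Subtype.val hc.symm)
  have hdet : α ^ 2 + tr x * α * β + β ^ 2 = 1 := by
    rw [← det_lin, ← hab]
    exact y.2
  have htr : 2 * α + β * tr x = tr x := by
    have h := tr_conj x g
    rw [← hy] at h
    conv_rhs => rw [← h]
    simp only [tr, hab, lin]
    simp
    ring
  set t := tr x
  have hkey : (t ^ 2 - 4) * (1 - β ^ 2) = 0 := by
    linear_combination 4 * hdet - (2 * α + t - t * β + 2 * t * β) * htr
  rcases mul_eq_zero.1 hkey with h | h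
  · exfalso
    have : (t - 2) * (t + 2) = 0 := by linear_combination h
    rcases mul_eq_zero.1 this with h' | h'
    · exact hxc (eq_one_of_tr_two hx (sub_eq_zero.1 h') ▸ Subgroup.one_mem _)
    · exact hxc (mem_center_of_mul_self h2 (sq_eq_one_of_tr_neg_two hx hp (eq_neg_of_add_eq_zero_left h')))
  · have hβ : (β - 1) * (β + 1) = 0 := by linear_combination -h
    rcases mul_eq_zero.1 hβ with h' | h'
    · have hb : β = 1 := sub_eq_zero.1 h'
      have ha : α = 0 := by
        rw [hb] at htr
        exact (mul_eq_zero.1 (by linear_combination htr : (2 : K) * α = 0)).resolve_left h2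
      apply Subtype.ext
      rw [hab, hb, ha]
      simp [lin]
    · have hb : β = -1 := eq_neg_of_add_eq_zero_left h'
      have ha : α = t := by
        rw [hb] at htr
        exact mul_left_cancel₀ h2 (by linear_combination htr)
      have hxy : x * y = 1 := by
        apply Subtype.ext
        rw [Matrix.SpecialLinearGroup.coe_mul, hab, hb, ha, lin, mul_add, Matrix.mul_smul, mul_one,
          Matrix.mul_smul, coe_sq, neg_one_smul]
        simp [t]
      have hyinv : y = x⁻¹ := eq_inv_of_mul_eq_one_right hxy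
      have hg2 : Commute (g ^ 2) x := by
        have : g ^ 2 * x * (g ^ 2)⁻¹ = x := by
          calc g ^ 2 * x * (g ^ 2)⁻¹ = g * y * g⁻¹ := by rw [hy, pow_two]; group
            _ = g * x⁻¹ * g⁻¹ := by rw [hyinv]
            _ = y⁻¹ := by rw [hy]; group
            _ = x := by rw [hyinv, inv_inv]
        exact mul_inv_eq_iff_eq_mul.1 this
      obtain ⟨k, hk⟩ := (Fact.out : p.Prime).odd_of_ne_two hp
      have hgx : Commute g x := by
        have : g = (g ^ 2) ^ (k + 1) := by
          rw [← pow_mul, show 2 * (k + 1) = p + 1 by omega, pow_succ, hg, one_mul]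
        rw [this]
        exact hg2.pow_left _
      rw [hy, hgx.eq, mul_inv_cancel_right]

/-- Elements of order prime to `p` centralising a nontrivial unipotent are central. -/
theorem mem_center_of_commute_upperE (hp : p ≠ 2) {x : SL2 K} {t : K} (ht : t ≠ 0)
    (hx : (orderOf x).Coprime p) (hc : Commute (upperE t) x) : x ∈ Subgroup.center (SL2 K) := by
  have h2 := two_ne_zero_char (K := K) hp
  have hu : upperE t ∉ Subgroup.center (SL2 K) := by
    rw [mem_center_iff']
    rintro (h | h)
    · exact ht (upperE_eq_one_iff.1 h)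
    · have h' := congrFun (congrFun (congrArg Subtype.val h) 0) 0
      simp [upperE] at h'
      exact h2 (by linear_combination h')
  obtain ⟨α, β, hab⟩ := exists_lin_of_commute hu (congrArg Subtype.val hc.symm)
  have hd : (α + β) * (α + β) = 1 := by
    have := x.2
    rw [hab, det_lin] at this
    simp [tr, upperE] at this
    linear_combination this
  have hxx : x * x = upperE (2 * (β * t) * (α + β)) := by
    apply Subtype.ext
    rw [Matrix.SpecialLinearGroup.coe_mul, hab, upperE_val]
    ext i j
    fin_cases i <;> fin_cases j <;> simp [lin, upperE, Matrix.mul_apply, Fin.sum_univ_two] <;>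
      first | linear_combination hd | ring
  have h1 : (x * x) ^ p = 1 := by rw [hxx, upperE_pow_char p]
  have hcop : (orderOf (x * x)).Coprime p := by
    refine hx.coprime_dvd_left ?_
    rw [← pow_two]
    exact orderOf_pow_dvd 2
  exact mem_center_of_mul_self h2
    (orderOf_eq_one_iff.1 (Nat.eq_one_of_dvd_coprimes hcop dvd_rfl (orderOf_dvd_of_pow_eq_one h1)))

/-- `[[0, -c], [c, 0]]` for `c² = 1`. -/
def weylE (c : K) (hc : c * c = 1) : SL2 K :=
  ⟨!![0, -c; c, 0], by rw [Matrix.det_fin_two_of]; linear_combination hc⟩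

theorem closure_upperE_eq_top (c : ZMod 3) (hc : c * c = 1) :
    Subgroup.closure ({upperE 1, weylE c hc} : Set (SL2 (ZMod 3))) = ⊤ := by
  rw [eq_top_iff, ← Linear.closure_slTvSet, Subgroup.closure_le]
  rintro g ⟨i, j, hij, d, rfl⟩
  set S : Subgroup (SL2 (ZMod 3)) := Subgroup.closure {upperE 1, weylE c hc}
  have hu : ∀ d : ZMod 3, upperE d ∈ S := fun d => by
    have : upperE d = upperE (1 : ZMod 3) ^ d.val := by
      rw [upperE_pow, mul_one, ZMod.natCast_val, ZMod.cast_id]
    rw [this]
    exact pow_mem (Subgroup.subset_closure (Set.mem_insert _ _)) _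
  have hw : weylE c hc ∈ S := Subgroup.subset_closure (Set.mem_insert_of_mem _ rfl)
  fin_cases i <;> fin_cases j
  · exact absurd rfl hij
  · have e : SpecialLinearGroup.transvection hij d = upperE d := by
      apply Subtype.ext
      ext k l
      fin_cases k <;> fin_cases l <;>
        simp [upperE, Matrix.SpecialLinearGroup.transvection, Matrix.transvection]
    rw [SetLike.mem_coe, e]
    exact hu d
  · have hl : SpecialLinearGroup.transvection hij d * weylE c hc = weylE c hc * upperE (-d) := by
      apply Subtype.ext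
      rw [Matrix.SpecialLinearGroup.coe_mul, Matrix.SpecialLinearGroup.coe_mul]
      ext k l
      fin_cases k <;> fin_cases l <;>
        simp [weylE, upperE, Matrix.SpecialLinearGroup.transvection, Matrix.transvection,
          Matrix.mul_apply, Fin.sum_univ_two] <;> ring
    rw [← eq_mul_inv_iff_mul_eq] at hl
    rw [SetLike.mem_coe, hl]
    exact mul_mem (mul_mem hw (hu _)) (inv_mem hw)
  · exact absurd rfl hij

/-- A unipotent element moving an element of a `p'`-subgroup it normalises: `p = 3`, and `SL₂(3)` occurs. -/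
theorem exists_sl2_three [Finite K] (hp : p ≠ 2) {t : K} (ht : t ≠ 0) (Q : Subgroup (SL2 K))
    (hQ : (Nat.card Q).Coprime p) (hQa : ∀ q ∈ Q, upperE t * q * (upperE t)⁻¹ ∈ Q)
    (hmove : ∃ q ∈ Q, upperE t * q * (upperE t)⁻¹ ≠ q) :
    p = 3 ∧ ∃ M : Subgroup (SL2 K), M ≤ Subgroup.closure (insert (upperE t) (Q : Set (SL2 K))) ∧
      Nonempty (M ≃* SL2 (ZMod 3)) := by
  classical
  have h2 := two_ne_zero_char (K := K) hp
  set a := upperE t with ha
  have hap : a ^ p = 1 := upperE_pow_char p t
  set A := Subgroup.zpowers a with hA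
  have hAcard : ∀ R : Subgroup (SL2 K), (Nat.card R).Coprime p → (Nat.card A).Coprime (Nat.card R) := by
    intro R hR
    rw [hA, Nat.card_zpowers]
    exact (hR.coprime_dvd_right (orderOf_dvd_of_pow_eq_one hap)).symm
  let s : Set (Subgroup (SL2 K)) :=
    {R | R ≤ Q ∧ (∀ q ∈ R, a * q * a⁻¹ ∈ R) ∧ ∃ q ∈ R, a * q * a⁻¹ ≠ q}
  obtain ⟨R, hR⟩ := Set.Finite.exists_minimal (Set.toFinite s) ⟨Q, le_rfl, hQa, hmove⟩
  obtain ⟨hRQ, hRa, x, hxR, hxmove⟩ := hR.prop
  have hRcop : (Nat.card R).Coprime p := hQ.coprime_dvd_left (Subgroup.card_dvd_of_le hRQ)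
  have hord : ∀ {q : SL2 K}, q ∈ R → (orderOf q).Coprime p := fun {q} hq =>
    hRcop.coprime_dvd_left (R.orderOf_dvd_natCard hq)
  have hAR : A ≤ Subgroup.normalizer (R : Set (SL2 K)) := by
    rw [hA, Subgroup.zpowers_le]
    exact Subgroup.mem_normalizer_fintype hRa
  have hmin : ∀ T : Subgroup (SL2 K), T ≤ R → T ≠ R → A ≤ Subgroup.normalizer (T : Set (SL2 K)) →
      ∀ q ∈ T, a * q * a⁻¹ = q := by
    intro T hT hTne hAT q hq
    by_contra h
    refine hTne (le_antisymm hT (hR.le_of_le ⟨hT.trans hRQ, fun u hu => ?_, q, hq, h⟩ hT))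
    exact (Subgroup.mem_normalizer_iff.1 (hAT (Subgroup.mem_zpowers a)) u).1 hu
  -- R is an r-group for some prime r
  obtain ⟨r, hr, hRr⟩ : ∃ r : ℕ, r.Prime ∧ IsPGroup r R := by
    by_contra hno
    push Not at hno
    apply hxmove
    let C : Subgroup (SL2 K) := R ⊓ Subgroup.centralizer {a}
    have hidx : (C.subgroupOf R).index = 1 := by
      rw [Nat.eq_one_iff_not_exists_prime_dvd]
      intro r hr hdvd
      haveI := Fact.mk hr
      obtain ⟨P, hP⟩ := Coprime.exists_invariant_sylow hAR (hAcard R hRcop)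
        (Or.inl (inferInstance : Group.IsSolvable A)) r
      have hne : (P : Subgroup R).map R.subtype ≠ R := by
        intro h
        refine hno r hr ?_
        rw [← h]
        exact P.isPGroup'.map _
      have hPC : (P : Subgroup R) ≤ C.subgroupOf R := fun q hq => ⟨q.2, by
        show (q : SL2 K) ∈ Subgroup.centralizer {a}
        rw [Subgroup.mem_centralizer_singleton_iff]
        exact (mul_inv_eq_iff_eq_mul.1
          (hmin _ (Subgroup.map_subtype_le _) hne hP _ (Subgroup.mem_map_of_mem R.subtype hq))).symm⟩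
      exact P.not_dvd_index (hdvd.trans (Subgroup.index_dvd_of_le hPC))
    have hxC := (Subgroup.index_eq_one.1 hidx).symm ▸ Subgroup.mem_top (⟨x, hxR⟩ : R)
    rw [Subgroup.mem_subgroupOf] at hxC
    have hc := Subgroup.mem_centralizer_singleton_iff.1 hxC.2
    simp only at hc
    rw [← hc, mul_inv_cancel_right]
  haveI := Fact.mk hr
  haveI : Nontrivial R := ⟨⟨⟨x, hxR⟩, 1, fun h => hxmove (by
    have : x = 1 := congrArg Subtype.val h
    rw [this, mul_one, mul_inv_cancel])⟩⟩
  -- squares and commutators are central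
  have hF : ∀ q ∈ frattini R, (q : SL2 K) ∈ Subgroup.center (SL2 K) := by
    intro q hq
    have hne : (frattini R).map R.subtype ≠ R := by
      intro h
      have htop : frattini R = ⊤ := Subgroup.map_injective R.subtype_injective (by
        rw [h, ← MonoidHom.range_eq_map, Subgroup.range_subtype])
      have hbot : (⊥ : Subgroup R) = ⊤ := frattini_nongenerating (by rw [htop, sup_top_eq])
      exact bot_ne_top hbot
    refine mem_center_of_commute_upperE hp ht (hord q.2) ?_
    exact mul_inv_eq_iff_eq_mul.1 (hmin _ (Subgroup.map_subtype_le _) hne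
      (hAR.trans (Cores.normalizer_le_normalizer_map _)) _ (Subgroup.mem_map_of_mem R.subtype hq))
  have hncomm : ∀ g : SL2 K, g ^ p = 1 → g * x * g⁻¹ ∈ R → g * x * g⁻¹ ≠ x →
      ¬ Commute x (g * x * g⁻¹) := fun g hg _ hne hc =>
    hne (commute_of_conj_commute hp (hord hxR) hg hc)
  have hxc : x ∉ Subgroup.center (SL2 K) := fun h => hxmove (by
    rw [Subgroup.mem_center_iff.1 h a, mul_inv_cancel_right])
  -- r = 2
  have hr2 : r = 2 := by
    haveI : Nontrivial (Subgroup.center R) := hRr.center_nontrivial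
    obtain ⟨⟨z, hz⟩, hz1⟩ := exists_ne (1 : Subgroup.center R)
    have hzc : (z : SL2 K) ∈ Subgroup.center (SL2 K) := by
      by_contra h
      refine hncomm a hap (hRa x hxR) hxmove (commute_of_commute h ?_ ?_)
      · exact congrArg Subtype.val (Subgroup.mem_center_iff.1 hz ⟨x, hxR⟩)
      · exact congrArg Subtype.val (Subgroup.mem_center_iff.1 hz ⟨a * x * a⁻¹, hRa x hxR⟩)
    rcases mem_center_iff'.1 hzc with h | h
    · exact absurd (Subtype.ext (Subtype.ext h)) hz1
    · obtain ⟨k, hk⟩ := IsPGroup.iff_orderOf.1 hRr z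
      have hz2 : orderOf z = 2 := by
        refine orderOf_eq_prime ?_ fun h1 => hz1 (Subtype.ext h1)
        apply Subtype.ext
        rw [SubgroupClass.coe_pow, h, neg_one_sq]
        rfl
      rw [hz2] at hk
      exact ((Nat.prime_dvd_prime_iff_eq Nat.prime_two hr).1 (Nat.prime_two.dvd_of_dvd_pow
        (dvd_of_eq hk))).symm
  subst hr2
  have hsq : x * x = -1 := by
    have h := hF _ (PGroup.pow_mem_frattini hRr (⟨x, hxR⟩ : R))
    rw [SubgroupClass.coe_pow, pow_two] at h
    rcases mem_center_iff'.1 h with h | h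
    · exact absurd (mem_center_of_mul_self h2 h) hxc
    · exact h
  have hanti : ∀ g : SL2 K, g ^ p = 1 → (hm : g * x * g⁻¹ ∈ R) → g * x * g⁻¹ ≠ x →
      x * (g * x * g⁻¹) = -(g * x * g⁻¹ * x) := by
    intro g hg hm hne
    have h := hF _ (PGroup.commutatorElement_mem_frattini hRr (⟨x, hxR⟩ : R) ⟨g * x * g⁻¹, hm⟩)
    set y := g * x * g⁻¹
    have h' : x * y * x⁻¹ * y⁻¹ ∈ Subgroup.center (SL2 K) := h
    rcases mem_center_iff'.1 h' with h | h
    · exact absurd (mul_inv_eq_iff_eq_mul.1 (mul_inv_eq_one.1 h)) (hncomm g hg hm hne)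
    · rw [mul_inv_eq_iff_eq_mul, mul_inv_eq_iff_eq_mul, neg_one_mul, neg_mul] at h
      exact h
  have hA1 := hanti a hap (hRa x hxR) hxmove
  have hA2 := hanti (a * a) (by rw [(Commute.refl a).mul_pow, hap, one_mul])
    (by
      have := hRa _ (hRa x hxR)
      simpa [mul_assoc] using this)
    (by
      intro h
      obtain ⟨k, hk⟩ := (Fact.out : p.Prime).odd_of_ne_two hp
      have hg2 : Commute (a * a) x := mul_inv_eq_iff_eq_mul.1 h
      have hax : Commute a x := by
        have : a = (a * a) ^ (k + 1) := by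
          rw [← pow_two, ← pow_mul, show 2 * (k + 1) = p + 1 by omega, pow_succ, hap, one_mul]
        rw [this]
        exact hg2.pow_left _
      exact hxmove (by rw [hax.eq, mul_inv_cancel_right]))
  -- entries
  have htr : x.1 1 1 = - x.1 0 0 := by
    have h := congrArg Subtype.val hsq
    rw [Matrix.SpecialLinearGroup.coe_mul, coe_sq] at h
    simp only [Matrix.SpecialLinearGroup.coe_neg, Matrix.SpecialLinearGroup.coe_one] at h
    have h0 : tr x • x.1 = 0 := by rw [sub_eq_neg_self] at h; exact h
    rcases smul_eq_zero.1 h0 with h1 | h1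
    · exact eq_neg_of_add_eq_zero_right h1
    · simp [h1]
  set α := x.1 0 0
  set β := x.1 0 1
  set γ := x.1 1 0
  have hdet : -(α * α) - β * γ = 1 := by
    have := det_eq x
    rw [htr] at this
    linear_combination this
  have key : ∀ s : K, x * (upperE s * x * (upperE s)⁻¹) = -(upperE s * x * (upperE s)⁻¹ * x) →
      s * s * (γ * γ) = -2 := by
    intro s h
    have hinv : (upperE s)⁻¹ = upperE (-s) :=
      inv_eq_of_mul_eq_one_right (by rw [upperE_mul, add_neg_cancel, upperE_zero])
    have h00 := congrFun (congrFun (congrArg Subtype.val h) 0) 0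
    rw [hinv] at h00
    simp only [Matrix.SpecialLinearGroup.coe_mul, Matrix.SpecialLinearGroup.coe_neg, upperE_val] at h00
    rw [Matrix.eta_fin_two x.1, htr] at h00
    simp [Matrix.mul_fin_two] at h00
    linear_combination -h00 - 2 * hdet
  have e1 := key t (ha ▸ hA1)
  have e2 := key (t + t) (by rw [← upperE_mul]; exact hA2)
  have hp3 : p = 3 := by
    have h3 : ((3 : ℕ) : K) = 0 := by
      have h6 : (3 : K) * (t * t * (γ * γ)) = 0 := by linear_combination e2 - e1
      rw [e1] at h6
      push_cast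
      exact (mul_eq_zero.1 h6).resolve_right (neg_ne_zero.2 h2)
    exact (Nat.prime_dvd_prime_iff_eq Fact.out Nat.prime_three).1 ((CharP.cast_eq_zero_iff K p 3).1 h3)
  subst hp3
  refine ⟨rfl, ?_⟩
  have hγ : γ ≠ 0 := fun h => h2 (by rw [h] at e1; linear_combination e1)
  have h3 : (3 : K) = 0 := by exact_mod_cast CharP.cast_eq_zero K 3
  have he2 : (t * γ) * (t * γ) = 1 := by linear_combination e1 - h3
  -- conjugation onto the standard copy
  let P : Matrix (Fin 2) (Fin 2) K := !![t⁻¹, -α / γ * t⁻¹; 0, 1]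
  let Pi : Matrix (Fin 2) (Fin 2) K := !![t, α / γ; 0, 1]
  have hPP : P * Pi = 1 := by
    simp only [P, Pi, Matrix.mul_fin_two]
    ext i j
    fin_cases i <;> fin_cases j <;> simp [ht] <;> field_simp <;> ring
  have hPP' : Pi * P = 1 := mul_eq_one_comm.1 hPP
  let ι : ZMod 3 →+* K := ZMod.castHom dvd_rfl K
  let F : SL2 (ZMod 3) →* SL2 K := MonoidHom.mk'
    (fun g => ⟨Pi * (g.1.map ι) * P, by
      rw [Matrix.det_mul, Matrix.det_mul, mul_right_comm, ← Matrix.det_mul, hPP', Matrix.det_one,
        one_mul, ← RingHom.mapMatrix_apply, ← RingHom.map_det, g.2, map_one]⟩)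
    fun g h => Subtype.ext (by
      show Pi * ((g.1 * h.1).map ι) * P = (Pi * g.1.map ι * P) * (Pi * h.1.map ι * P)
      rw [Matrix.map_mul]
      calc Pi * (g.1.map ι * h.1.map ι) * P = Pi * g.1.map ι * (P * Pi) * (h.1.map ι * P) := by
            rw [hPP]; simp [Matrix.mul_assoc]
        _ = _ := by simp [Matrix.mul_assoc])
  have hFinj : Function.Injective F := by
    intro g h hgh
    have h' : Pi * g.1.map ι * P = Pi * h.1.map ι * P := congrArg Subtype.val hgh
    have h'' := congrArg (fun X => P * X * Pi) h'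
    simp only [Matrix.mul_assoc, hPP, Matrix.mul_one] at h''
    rw [← Matrix.mul_assoc, hPP, Matrix.one_mul, ← Matrix.mul_assoc, hPP, Matrix.one_mul] at h''
    exact Subtype.ext (Matrix.map_injective ι.injective h'')
  obtain ⟨c, hcc, hce⟩ : ∃ c : ZMod 3, c * c = 1 ∧ ι c = t * γ := by
    rcases mul_self_eq_one_iff.1 he2 with h | h
    · exact ⟨1, one_mul 1, by rw [map_one, h]⟩
    · exact ⟨-1, by norm_num, by rw [map_neg, map_one, h]⟩
  have hFu : F (upperE 1) = a := by
    apply Subtype.ext
    show Pi * ((upperE (1 : ZMod 3)).1.map ι) * P = !![1, t; 0, 1]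
    have hm : (upperE (1 : ZMod 3)).1.map ι = !![1, 1; 0, 1] := by
      ext i j; fin_cases i <;> fin_cases j <;> simp [upperE]
    rw [hm]
    simp only [P, Pi, Matrix.mul_fin_two]
    ext i j
    fin_cases i <;> fin_cases j <;> simp [ht] <;> field_simp <;> ring
  have hFw : F (weylE c hcc) = x := by
    apply Subtype.ext
    show Pi * ((weylE c hcc).1.map ι) * P = x.1
    have hm : (weylE c hcc).1.map ι = !![0, -(t * γ); t * γ, 0] := by
      ext i j; fin_cases i <;> fin_cases j <;> simp [weylE, hce]
    rw [hm, Matrix.eta_fin_two x.1, htr]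
    simp only [P, Pi, Matrix.mul_fin_two]
    ext i j
    have hdet' : -(α * α) - x.1 0 1 * γ = 1 := hdet
    fin_cases i <;> fin_cases j <;> simp [ht] <;> field_simp <;>
      first | ring1 | linear_combination hdet' - he2
  refine ⟨F.range, ?_, ⟨(MonoidHom.ofInjective hFinj).symm⟩⟩
  rw [MonoidHom.range_eq_map, ← closure_upperE_eq_top c hcc, MonoidHom.map_closure, Subgroup.closure_le]
  rintro _ ⟨g, (rfl | rfl), rfl⟩
  · rw [hFu]; exact Subgroup.subset_closure (Set.mem_insert _ _)
  · rw [hFw]; exact Subgroup.subset_closure (Set.mem_insert_of_mem _ (hRQ hxR))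

end Cfsg.Agent.Quadratic
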