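import Cfsg.Agent.Lib.Quadratic.TwoGen
import Cfsg.Agent.Lib.Quadratic.Unipotent
import Cfsg.Agent.Lib.PSL2.Subgroups
import Cfsg.Agent.Lib.Linear.SLn
import Cfsg.Agent.Lib.Linear.GenTools

/-!
# `SL₂(p)` inside a group generated by two transvections (namespace `Cfsg.Agent.Quadratic`)

* `exists_conj_upperE_of_pow`: elements of order `p` of `SL₂` are conjugate to some `upperE t`
* `exists_sl2_three_of_alt_five`: a preimage of `A₅` in characteristic 3 contains `SL₂(3)`
* `exists_sl2_zmod`: a subgroup containing `upperE c` (`c ≠ 0`) and `lowerE 1` contains a copy of `SL₂(p)`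
-/

set_option autoImplicit false
set_option linter.unusedSectionVars false

namespace Cfsg.Agent.Quadratic

open Matrix PSL2

variable {K : Type*} [Field K] {p : ℕ} [Fact p.Prime] [CharP K p]

theorem exists_conj_upperE_of_pow {y : SL2 K} (hy : y ^ p = 1) :
    ∃ (g : SL2 K) (t : K), g⁻¹ * y * g = upperE t := by
  have hsq : (y.1 - 1) * (y.1 - 1) = (tr y - 2) • y.1 := by
    rw [sub_mul, mul_sub, one_mul, mul_one, coe_sq, sub_smul, two_smul]
    abel
  have hy1 : y.1 ^ p = 1 := by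
    rw [← Matrix.SpecialLinearGroup.coe_pow, hy]
    rfl
  have ht : tr y = 2 := by
    have h0 : (y.1 - 1) ^ p = 0 := by
      rw [sub_pow_char_of_commute p (Commute.one_right _), hy1, one_pow, sub_self]
    have h1 : ((tr y - 2) • y.1) ^ p = 0 := by
      rw [← hsq, (Commute.refl _).mul_pow, h0, mul_zero]
    rw [_root_.smul_pow, hy1] at h1
    exact sub_eq_zero.1 (eq_zero_of_pow_eq_zero ((smul_eq_zero.1 h1).resolve_right one_ne_zero))
  have hd := det_eq y
  have hsum : y.1 0 0 + y.1 1 1 = 2 := ht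
  by_cases hc : y.1 1 0 = 0
  · refine ⟨1, y.1 0 1, ?_⟩
    have h00 : y.1 0 0 = 1 := by
      rw [hc, mul_zero, sub_zero] at hd
      have : (y.1 0 0 - 1) ^ 2 = 0 := by linear_combination -hd + y.1 0 0 * hsum
      exact sub_eq_zero.1 (eq_zero_of_pow_eq_zero this)
    rw [inv_one, one_mul, mul_one]
    apply Subtype.ext
    ext i j
    fin_cases i <;> fin_cases j <;> simp [upperE, hc, h00]
    linear_combination hsum - h00
  · let g : SL2 K := ⟨!![y.1 0 0 - 1, -(y.1 1 0)⁻¹; y.1 1 0, 0], by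
      rw [Matrix.det_fin_two_of]; field_simp; ring⟩
    suffices h : y * g = g * upperE (-(y.1 1 0)⁻¹) from
      ⟨g, _, (mul_assoc g⁻¹ y g).trans (inv_mul_eq_iff_eq_mul.2 h)⟩
    apply Subtype.ext
    rw [Matrix.SpecialLinearGroup.coe_mul, Matrix.SpecialLinearGroup.coe_mul, upperE_val,
      show g.1 = !![y.1 0 0 - 1, -(y.1 1 0)⁻¹; y.1 1 0, 0] from rfl]
    ext i j
    fin_cases i <;> fin_cases j <;>
      simp [Matrix.mul_apply, Fin.sum_univ_two] <;> (try field_simp) <;>
      first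
      | ring1
      | linear_combination -hd + y.1 0 0 * hsum
      | linear_combination hd - y.1 0 0 * hsum
      | linear_combination hsum
      | linear_combination -hsum
      | linear_combination (y.1 1 0) * hsum
      | linear_combination -(y.1 1 0) * hsum

/-- `(0 1)(2 3)`. -/
def kv1 : alternatingGroup (Fin 5) := ⟨Equiv.swap 0 1 * Equiv.swap 2 3, by simp [Equiv.Perm.mem_alternatingGroup, Equiv.Perm.sign_swap']⟩

/-- `(0 2)(1 3)`. -/
def kv2 : alternatingGroup (Fin 5) := ⟨Equiv.swap 0 2 * Equiv.swap 1 3, by simp [Equiv.Perm.mem_alternatingGroup, Equiv.Perm.sign_swap']⟩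

/-- `(0 3)(1 2)`. -/
def kv3 : alternatingGroup (Fin 5) := ⟨Equiv.swap 0 3 * Equiv.swap 1 2, by simp [Equiv.Perm.mem_alternatingGroup, Equiv.Perm.sign_swap']⟩

/-- `(0 1 2)`. -/
def kv4 : alternatingGroup (Fin 5) := ⟨Equiv.swap 0 1 * Equiv.swap 1 2, by simp [Equiv.Perm.mem_alternatingGroup, Equiv.Perm.sign_swap']⟩

/-- The Klein four subgroup of `A₅`. -/
def kleinFive : Subgroup (alternatingGroup (Fin 5)) where
  carrier := {g | g = 1 ∨ g = kv1 ∨ g = kv2 ∨ g = kv3}
  one_mem' := Or.inl rfl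
  mul_mem' := by
    rintro a b (rfl | rfl | rfl | rfl) (rfl | rfl | rfl | rfl) <;> simp only [Set.mem_ofPred_eq] <;> decide
  inv_mem' := by
    rintro a (rfl | rfl | rfl | rfl) <;> simp only [Set.mem_ofPred_eq] <;> decide

theorem kleinFive_facts :
    kv4 ^ 3 = 1 ∧ kv1 ∈ kleinFive ∧ kv4 * kv1 * kv4⁻¹ ≠ kv1 ∧
      (∀ g ∈ kleinFive, kv4 * g * kv4⁻¹ ∈ kleinFive) ∧ ∀ g ∈ kleinFive, g ^ 2 = 1 := by
  refine ⟨by decide, Or.inr (Or.inl rfl), by decide, ?_, ?_⟩
  · intro g hg
    show _ ∨ _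
    rcases hg with rfl | rfl | rfl | rfl <;> decide
  · intro g hg
    rcases hg with rfl | rfl | rfl | rfl <;> decide

theorem exists_sl2_three_of_alt_five [Finite K] [CharP K 3] (G' : Subgroup (SL2 K))
    (Ψ : G' →* alternatingGroup (Fin 5)) (hΨ : Function.Surjective Ψ)
    (hker : ∀ x : G', Ψ x = 1 → x ^ 2 = 1) :
    ∃ M : Subgroup (SL2 K), M ≤ G' ∧ Nonempty (M ≃* SL2 (ZMod 3)) := by
  haveI : Fact (Nat.Prime 3) := ⟨Nat.prime_three⟩
  haveI : Fact (Nat.Prime 2) := ⟨Nat.prime_two⟩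
  obtain ⟨hs, hvV, hsv, hsV, hV⟩ := kleinFive_facts
  set V := kleinFive
  set s := kv4
  set v := kv1
  have hV2 : IsPGroup 2 V := fun g => ⟨1, Subtype.ext (by
    rw [pow_one, SubgroupClass.coe_pow]; exact hV g g.2)⟩
  set Q₀ : Subgroup G' := V.comap Ψ
  have hQ2 : IsPGroup 2 Q₀ := hV2.comap_of_ker_isPGroup Ψ fun x =>
    ⟨1, Subtype.ext (by rw [pow_one]; exact hker x x.2)⟩
  obtain ⟨y₀, hy₀⟩ := hΨ s
  set y := y₀ ^ 4 with hydef
  have hyΨ : Ψ y = s := by
    rw [hydef, map_pow, hy₀, pow_succ, hs, one_mul]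
  have hy3 : y ^ 3 = 1 := by
    rw [hydef, ← pow_mul, show 4 * 3 = 3 * 2 * 2 from rfl, pow_mul, pow_mul]
    rw [hker (y₀ ^ 3) (by rw [map_pow, hy₀, hs]), one_pow]
  obtain ⟨w, hw⟩ := hΨ v
  obtain ⟨g, t, hgt⟩ := exists_conj_upperE_of_pow (p := 3) (y := (y : SL2 K))
    (by rw [← SubgroupClass.coe_pow, hy3]; rfl)
  let C : SL2 K ≃* SL2 K := MulAut.conj g⁻¹
  have hC : ∀ z, C z = g⁻¹ * z * g := fun z => by simp [C]
  set Q := (Q₀.map G'.subtype).map C.toMonoidHom with hQdef
  have hQcard : (Nat.card Q).Coprime 3 := by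
    rw [hQdef, Subgroup.card_map_of_injective C.injective,
      Subgroup.card_map_of_injective G'.subtype_injective]
    obtain ⟨n, hn⟩ := IsPGroup.iff_card.1 hQ2
    rw [hn]
    exact Nat.Coprime.pow_left n (by norm_num)
  have hQnorm : ∀ q ∈ Q, upperE t * q * (upperE t)⁻¹ ∈ Q := by
    rintro _ ⟨_, ⟨q, hq, rfl⟩, rfl⟩
    refine ⟨_, ⟨y * q * y⁻¹, ?_, rfl⟩, ?_⟩
    · show Ψ (y * q * y⁻¹) ∈ V
      rw [map_mul, map_mul, map_inv, hyΨ]
      exact hsV _ hq
    · simp only [MulEquiv.coe_toMonoidHom, Subgroup.subtype_apply, Subgroup.coe_mul,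
        InvMemClass.coe_inv]
      rw [map_mul, map_mul, map_inv, ← hgt, ← hC]
  have hmove : ∃ q ∈ Q, upperE t * q * (upperE t)⁻¹ ≠ q := by
    refine ⟨C w, ⟨_, ⟨w, (show Ψ w ∈ V by rw [hw]; exact hvV), rfl⟩, rfl⟩, fun h => hsv ?_⟩
    rw [← hgt, ← hC, ← map_inv, ← map_mul, ← map_mul] at h
    have h' : y * w * y⁻¹ = w := Subtype.ext (C.injective h)
    rw [← hyΨ, ← hw, ← map_inv, ← map_mul, ← map_mul, h']
  have ht : t ≠ 0 := by
    intro h
    apply hsv
    have hy1 : y = 1 := by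
      apply Subtype.ext
      apply C.injective
      rw [hC, hgt, h, upperE_zero, OneMemClass.coe_one, map_one]
    rw [← hyΨ, hy1, map_one, one_mul, inv_one, mul_one]
  obtain ⟨-, M, hM, ⟨e⟩⟩ := exists_sl2_three (p := 3) (by norm_num) ht Q hQcard hQnorm hmove
  refine ⟨M.map C.symm.toMonoidHom, ?_, ⟨(M.equivMapOfInjective _ C.symm.injective).symm.trans e⟩⟩
  rw [Subgroup.map_le_iff_le_comap]
  refine hM.trans ((Subgroup.closure_le _).2 ?_)
  rintro _ (rfl | hq)
  · show C.symm (upperE t) ∈ G'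
    rw [← hgt, ← hC, MulEquiv.symm_apply_apply]
    exact y.2
  · obtain ⟨_, ⟨q, -, rfl⟩, rfl⟩ := hq
    show C.symm (C q) ∈ G'
    rw [MulEquiv.symm_apply_apply]
    exact q.2

section Main

variable {L : Type*} [Field L]

/-- The projection `SL₂ → PGL₂`. -/
noncomputable def toPGLHom : SL2 L →* PGL2 L :=
  (toK (RingHom.id L)).comp (QuotientGroup.mk' (Subgroup.center (SL2 L)))

theorem toPGLHom_eq_mob (s : SL2 L) :
    toPGLHom s = mob (s.1 0 0) (s.1 0 1) (s.1 1 0) (s.1 1 1)
      (by rw [det_eq s]; exact one_ne_zero) := by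
  show toK (RingHom.id L) (QuotientGroup.mk s) = _
  rw [toK_mk]
  rfl

theorem toPGLHom_eq_one {s : SL2 L} (h : toPGLHom s = 1) : s = 1 ∨ s = -1 :=
  mem_center_iff'.1 ((QuotientGroup.eq_one_iff s).1
    (toK_injective (RingHom.id L) (by rw [map_one]; exact h)))

theorem toPGLHom_map {R : Type*} [Field R] (φ : R →+* L) (s : SL2 R) :
    toPGLHom (SpecialLinearGroup.map φ s) = toK φ (QuotientGroup.mk s) := by
  rw [toPGLHom_eq_mob, toK_mk]
  rfl

theorem exists_conj_pgl (g : PGL2 L) : ∃ C : SL2 L →* SL2 L, Function.Injective C ∧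
    ∀ x, toPGLHom (C x) = g⁻¹ * toPGLHom x * g := by
  induction g using Matrix.ProjGenLinGroup.induction_on with
  | mk h =>
    have hdet : ∀ x : SL2 L, ((h⁻¹ : GL (Fin 2) L).1 * x.1 * h.1).det = 1 := by
      intro x
      rw [Matrix.det_mul, Matrix.det_mul, x.2, mul_one, ← Matrix.det_mul, ← Units.val_mul,
        inv_mul_cancel, Units.val_one, Matrix.det_one]
    refine ⟨MonoidHom.mk' (fun x => ⟨_, hdet x⟩) fun x y => Subtype.ext ?_, ?_, fun x => ?_⟩
    · show (h⁻¹ : GL (Fin 2) L).1 * (x.1 * y.1) * h.1 =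
        ((h⁻¹ : GL (Fin 2) L).1 * x.1 * h.1) * ((h⁻¹ : GL (Fin 2) L).1 * y.1 * h.1)
      simp [Matrix.mul_assoc]
    · intro x y hxy
      have h1 : (h⁻¹ : GL (Fin 2) L).1 * x.1 * h.1 = (h⁻¹ : GL (Fin 2) L).1 * y.1 * h.1 :=
        congrArg Subtype.val hxy
      rw [Units.mul_left_inj, Units.mul_right_inj] at h1
      exact Subtype.ext h1
    · have key : ∀ z : SL2 L, toPGLHom z = ProjGenLinGroup.mk (SpecialLinearGroup.toGL z) := by
        intro z
        rw [toPGLHom_eq_mob, mob]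
        congr 1
        apply Units.ext
        exact (Matrix.eta_fin_two z.1).symm
      rw [key, key, ← map_inv, ← map_mul, ← map_mul]
      congr 1
      exact Units.ext rfl

/-- A subgroup containing `upperE c` and `lowerE 1` contains `SL₂(p)`. -/
theorem exists_sl2_zmod [Finite K] (hp : p ≠ 2) {c : K} (hc : c ≠ 0) (G' : Subgroup (SL2 K))
    (hu : upperE c ∈ G') (hl : lowerE 1 ∈ G') :
    ∃ M : Subgroup (SL2 K), M ≤ G' ∧ Nonempty (M ≃* SL2 (ZMod p)) := by
  classical
  let j : K →+* AlgebraicClosure K := algebraMap K (AlgebraicClosure K)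
  haveI : CharP (AlgebraicClosure K) p := charP_of_injective_ringHom j.injective p
  let f : SL2 K →* SL2 (AlgebraicClosure K) := SpecialLinearGroup.map j
  have hf : Function.Injective f := by
    intro a b h
    apply Subtype.ext
    ext i k
    exact j.injective (congrFun (congrFun (congrArg Subtype.val h) i) k)
  let Φ : G' →* PGL2 (AlgebraicClosure K) := (toPGLHom.comp f).comp G'.subtype
  haveI : Finite Φ.range := Finite.of_surjective _ Φ.rangeRestrict_surjective
  have hker : ∀ x : G', Φ x = 1 → x ^ 2 = 1 := by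
    intro x hx
    apply Subtype.ext
    apply hf
    rw [SubgroupClass.coe_pow, map_pow, OneMemClass.coe_one, map_one]
    rcases toPGLHom_eq_one (show toPGLHom (f (x : SL2 K)) = 1 from hx) with h | h
    · rw [h]; exact one_pow 2
    · rw [h]; exact neg_one_sq
  have hfv : ∀ (z : SL2 K) (i k : Fin 2), (f z).1 i k = j (z.1 i k) := fun _ _ _ => rfl
  have hUimg : Φ ⟨upperE c, hu⟩ = mob 1 (j c) 0 1 (by simp) := by
    show toPGLHom (f (upperE c)) = _
    rw [toPGLHom_eq_mob, mob_eq_mob_iff]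
    exact ⟨1, by simp only [hfv]; simp [upperE]⟩
  have hLimg : Φ ⟨lowerE 1, hl⟩ = mob 1 0 1 1 (by simp) := by
    show toPGLHom (f (lowerE 1)) = _
    rw [toPGLHom_eq_mob, mob_eq_mob_iff]
    exact ⟨1, by simp only [hfv]; simp [lowerE]⟩
  have hdvd : p ∣ Nat.card Φ.range := by
    have hne : Φ ⟨upperE c, hu⟩ ≠ 1 := by
      rw [hUimg, Ne, mob_eq_one_iff]
      exact fun h => hc (j.injective (h.1.trans (map_zero j).symm))
    have hord : orderOf (Φ ⟨upperE c, hu⟩) = p := by
      refine orderOf_eq_prime ?_ hne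
      rw [← map_pow, show (⟨upperE c, hu⟩ : G') ^ p = 1 from Subtype.ext (upperE_pow_char p c),
        map_one]
    calc p = orderOf (⟨Φ ⟨upperE c, hu⟩, _, rfl⟩ : Φ.range) := by rw [← Subgroup.orderOf_coe, hord]
      _ ∣ _ := orderOf_dvd_natCard _
  rcases PSL2.dickson Φ.range p with ⟨P, hP⟩ | ⟨n, -, -, -, h | h, -⟩ | ⟨h, -⟩ | ⟨hp3, -, ⟨e⟩⟩ |
    ⟨R, hR, g, hg⟩
  · exfalso
    have hu' := hP _ ⟨⟨upperE c, hu⟩, rfl⟩
    have hl' := hP _ ⟨⟨lowerE 1, hl⟩, rfl⟩
    rw [hUimg] at hu'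
    rw [hLimg] at hl'
    rcases pt_cases P with rfl | ⟨x, rfl⟩
    · exact one_ne_zero (mob_smul_pinf_eq_pinf.1 hl')
    · have := mob_smul_pt_eq_pt.1 hu'
      simp at this
      exact hc this
  · exact absurd hdvd h
  · exact absurd h hp
  · exact absurd hdvd h
  · subst hp3
    refine exists_sl2_three_of_alt_five G' (e.toMonoidHom.comp Φ.rangeRestrict)
      (e.surjective.comp Φ.rangeRestrict_surjective) fun x hx => hker x ?_
    have : Φ.rangeRestrict x = 1 := e.injective (hx.trans (map_one e).symm)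
    exact congrArg Subtype.val this
  · haveI := hR
    haveI : CharP R p := RingHom.charP R.subtype Subtype.coe_injective p
    let ι : ZMod p →+* AlgebraicClosure K := R.subtype.comp (ZMod.castHom dvd_rfl R)
    obtain ⟨C, hCinj, hC⟩ := exists_conj_pgl g
    let F : SL2 (ZMod p) →* SL2 (AlgebraicClosure K) := C.comp (SpecialLinearGroup.map ι)
    have hF : Function.Injective F := by
      intro a b h
      apply Subtype.ext
      ext i k
      exact ι.injective (congrFun (congrFun (congrArg Subtype.val (hCinj h)) i) k)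
    have hle : pslImg R ≤ conjH g Φ.range := by
      rcases hg with h | h
      · rw [h]
      · rw [h]; exact pslImg_le_pglImg R
    have hmem : ∀ s : SL2 (ZMod p), s ^ p = 1 → F s ∈ G'.map f := by
      intro s hs
      have h1 : toPGLHom (SpecialLinearGroup.map ι s) ∈ conjH g Φ.range := hle ⟨QuotientGroup.mk
        (SpecialLinearGroup.map (ZMod.castHom dvd_rfl R) s), (toPGLHom_map R.subtype _).symm⟩
      rw [mem_conjH, ← hC] at h1
      obtain ⟨y, hy⟩ := h1
      change toPGLHom (f y) = toPGLHom (F s) at hy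
      set z := (f y)⁻¹ * F s with hz
      have hzc : z = 1 ∨ z = -1 :=
        toPGLHom_eq_one (by rw [hz, map_mul, map_inv, hy, inv_mul_cancel])
      obtain ⟨k, hk⟩ := (Fact.out : p.Prime).odd_of_ne_two hp
      have hFs : F s = f y * z := by rw [hz, mul_inv_cancel_left]
      refine ⟨(y : SL2 K) ^ (p + 1), pow_mem y.2 _, ?_⟩
      have h2 : F s ^ (p + 1) = F s := by rw [← map_pow, pow_succ, hs, one_mul]
      rw [map_pow, ← h2, hFs]
      rcases hzc with h | h
      · rw [h, mul_one]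
      · rw [h, mul_neg_one, Even.neg_pow ⟨k + 1, by omega⟩]
    have hrange : F.range ≤ G'.map f := by
      rw [MonoidHom.range_eq_map, ← Linear.closure_slTvSet, MonoidHom.map_closure,
        Subgroup.closure_le]
      rintro _ ⟨_, ⟨i, k, hik, d, rfl⟩, rfl⟩
      refine hmem _ (Subtype.ext ?_)
      have : SpecialLinearGroup.transvection hik d ^ p = (1 : SL2 (ZMod p)) := by
        have hn : ∀ n : ℕ, SpecialLinearGroup.transvection hik d ^ n =
            (SpecialLinearGroup.transvection hik ((n : ZMod p) * d) : SL2 (ZMod p)) := by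
          intro n
          induction n with
          | zero => simp
          | succ n ih =>
            rw [pow_succ, ih, ← SpecialLinearGroup.transvection_add, Nat.cast_succ, add_mul, one_mul]
        rw [hn, CharP.cast_eq_zero, zero_mul]; simp
      exact congrArg Subtype.val this
    refine ⟨F.range.comap f, (Subgroup.comap_mono hrange).trans
      (Subgroup.comap_map_eq_self_of_injective hf G').le, ⟨?_⟩⟩
    have hmap : (F.range.comap f).map f = F.range :=
      Subgroup.map_comap_eq_self (hrange.trans (Subgroup.map_le_range f G'))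
    exact ((Subgroup.equivMapOfInjective _ f hf).trans (MulEquiv.subgroupCongr hmap)).trans
      (MonoidHom.ofInjective hF).symm

end Main

end Cfsg.Agent.Quadratic
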