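import Cfsg.Agent.Lib.Quadratic.Section
import Cfsg.Agent.Lib.Quadratic.SLTwoSection
import Cfsg.Agent.Lib.Involution.BaerSuzuki
import Cfsg.Agent.Lib.Solvable.Basic

/-!
# Failure of `p`-stability gives an `SL₂(p)` section (namespace `Cfsg.Agent.Quadratic`)

* `not_comm_sylow_two_sl2`, `not_comm_sylow_two_of_section`: Sylow 2-subgroups are then nonabelian
* `exists_pair_of_not_mem_pCore`: Baer–Suzuki: a conjugate pair not generating a `p`-group
* `exists_hom_sl2_of_pGroup`: a pair quadratic on a normal `p`-group maps onto a pair of transvections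
* `section_sl2_of_faithful`: faithful linear failure of `p`-stability gives a section `SL₂(p)`
* `section_sl2_of_not_stable`: an element quadratic on a normal `p`-group `P` outside `O_p` of
  `G / C(P)` gives a section `SL₂(p)`
* `section_of_quotient`: sections of a quotient are sections
-/

set_option autoImplicit false
set_option linter.unusedSectionVars false

namespace Cfsg.Agent.Quadratic

open Cfsg PSL2 Matrix

universe u

variable {p : ℕ} [Fact p.Prime]

theorem not_comm_sylow_two_sl2 (hp : p ≠ 2) (T : Sylow 2 (SL2 (ZMod p))) :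
    ¬ IsMulCommutative (T : Subgroup (SL2 (ZMod p))) := by
  haveI : Fact (Nat.Prime 2) := ⟨Nat.prime_two⟩
  have h2 := two_ne_zero_char (K := ZMod p) hp
  obtain ⟨s, t, hst⟩ := ZMod.sq_add_sq p (-1)
  let w : SL2 (ZMod p) := ⟨!![0, -1; 1, 0], by simp [Matrix.det_fin_two_of]⟩
  let z : SL2 (ZMod p) := ⟨!![s, t; t, -s], by
    rw [Matrix.det_fin_two_of]; linear_combination -hst⟩
  have hw : w * w = -1 := by
    apply Subtype.ext
    show w.1 * w.1 = -1
    ext i j
    fin_cases i <;> fin_cases j <;> simp [w, Matrix.mul_apply, Fin.sum_univ_two]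
  have hz : z * z = -1 := by
    apply Subtype.ext
    show z.1 * z.1 = -1
    ext i j
    fin_cases i <;> fin_cases j <;> simp [z, Matrix.mul_apply, Fin.sum_univ_two] <;>
      first | ring1 | linear_combination hst
  have hzw : z * w = -(w * z) := by
    apply Subtype.ext
    show z.1 * w.1 = -(w.1 * z.1)
    ext i j
    fin_cases i <;> fin_cases j <;> simp [w, z, Matrix.mul_apply, Fin.sum_univ_two]
  have hne : ¬ Commute w z := by
    intro h
    have h1 : -(w * z) = w * z := hzw.symm.trans h.eq.symm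
    have h3 : ∀ x : SL2 (ZMod p), -x = x → False := by
      intro x hx
      have : x.1 = 0 := by
        ext i j
        have he : -(x.1 i j) = x.1 i j := congrFun (congrFun (congrArg Subtype.val hx) i) j
        exact (mul_eq_zero.1 (by linear_combination -he : (2 : ZMod p) * x.1 i j = 0)).resolve_left h2
      have hd := x.2
      rw [this] at hd
      simp at hd
    exact h3 _ h1
  have h4 : ∀ x : SL2 (ZMod p), x * x = -1 → IsPGroup 2 (Subgroup.zpowers x) := fun x hx => by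
    rintro ⟨_, i, rfl⟩
    refine ⟨2, Subtype.ext ?_⟩
    show (x ^ i) ^ 2 ^ 2 = 1
    rw [← zpow_natCast, ← _root_.zpow_mul, mul_comm, _root_.zpow_mul,
      zpow_natCast, show x ^ 2 ^ 2 = 1 by
        rw [show (2 : ℕ) ^ 2 = 2 * 2 from rfl, pow_mul, pow_two x, hx, neg_one_sq], _root_.one_zpow]
  have hnorm : z ∈ Subgroup.normalizer (Subgroup.zpowers w : Set (SL2 (ZMod p))) := by
    refine Subgroup.mem_normalizer_fintype fun x hx => ?_
    obtain ⟨i, rfl⟩ := Subgroup.mem_zpowers_iff.1 hx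
    rw [← conj_zpow]
    refine Subgroup.zpow_mem _ ?_ i
    have : z * w * z⁻¹ = w ^ 3 := by
      rw [mul_inv_eq_iff_eq_mul, hzw, pow_succ, pow_two, hw, neg_one_mul, neg_mul]
    rw [this]
    exact Subgroup.pow_mem _ (Subgroup.mem_zpowers w) 3
  have hQ : IsPGroup 2 (Subgroup.zpowers z ⊔ Subgroup.zpowers w : Subgroup (SL2 (ZMod p))) :=
    (h4 z hz).to_sup_of_normal_right' (h4 w hw) (Subgroup.zpowers_le.2 hnorm)
  intro hT
  obtain ⟨P, hle⟩ := hQ.exists_le_sylow
  obtain ⟨g, hg⟩ := MulAction.exists_smul_eq (SL2 (ZMod p)) P T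
  have hmem : ∀ c ∈ (P : Subgroup (SL2 (ZMod p))), g * c * g⁻¹ ∈ (T : Subgroup (SL2 (ZMod p))) :=
    fun c hc => by
      rw [← hg, Sylow.coe_subgroup_smul, Subgroup.mem_pointwise_smul_iff_inv_smul_mem]
      simpa [mul_assoc] using hc
  have h := congrArg Subtype.val (hT.is_comm.comm
    ⟨_, hmem w (hle (Subgroup.mem_sup_right (Subgroup.mem_zpowers w)))⟩
    ⟨_, hmem z (hle (Subgroup.mem_sup_left (Subgroup.mem_zpowers z)))⟩)
  simp only [Subgroup.coe_mul] at h
  apply hne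
  show w * z = z * w
  have h1 : g * (w * z) * g⁻¹ = g * (z * w) * g⁻¹ := by simpa [mul_assoc] using h
  exact mul_left_cancel (mul_right_cancel h1)

/-- A group with a section `SL₂(p)` has nonabelian Sylow 2-subgroups. -/
theorem not_comm_sylow_two_of_section {G : Type*} [Group G] [Finite G] (hp : p ≠ 2) {H : Subgroup G}
    (h : ∃ (K L : Subgroup G) (_ : (L.subgroupOf K).Normal), K ≤ H ∧
      Nonempty ((K ⧸ L.subgroupOf K) ≃* SL2 (ZMod p))) (T : Sylow 2 H) :
    ¬ IsMulCommutative (T : Subgroup H) := by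
  haveI : Fact (Nat.Prime 2) := ⟨Nat.prime_two⟩
  obtain ⟨K, L, hL, hKH, ⟨e⟩⟩ := h
  intro hT
  obtain ⟨U⟩ : Nonempty (Sylow 2 K) := inferInstance
  let i := Subgroup.inclusion hKH
  obtain ⟨T', hle⟩ := (U.isPGroup'.map i).exists_le_sylow
  obtain ⟨g, hg⟩ := MulAction.exists_smul_eq H T' T
  have hcomm : ∀ a ∈ (T' : Subgroup H), ∀ b ∈ (T' : Subgroup H), a * b = b * a := by
    intro a ha b hb
    have hmem : ∀ c ∈ (T' : Subgroup H), g * c * g⁻¹ ∈ (T : Subgroup H) := fun c hc => by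
      rw [← hg, Sylow.coe_subgroup_smul, Subgroup.mem_pointwise_smul_iff_inv_smul_mem]
      simpa [mul_assoc] using hc
    have h := congrArg Subtype.val (hT.is_comm.comm ⟨_, hmem a ha⟩ ⟨_, hmem b hb⟩)
    simp only [Subgroup.coe_mul] at h
    have h1 : g * (a * b) * g⁻¹ = g * (b * a) * g⁻¹ := by simpa [mul_assoc] using h
    exact mul_left_cancel (mul_right_cancel h1)
  let q := e.toMonoidHom.comp (QuotientGroup.mk' (L.subgroupOf K))
  have hq : Function.Surjective q := e.surjective.comp (QuotientGroup.mk'_surjective _)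
  refine not_comm_sylow_two_sl2 hp (U.mapSurjective hq) ⟨⟨?_⟩⟩
  rintro ⟨_, a, ha, rfl⟩ ⟨_, b, hb, rfl⟩
  apply Subtype.ext
  show q a * q b = q b * q a
  rw [← map_mul, ← map_mul]
  congr 1
  exact Subgroup.inclusion_injective hKH
    (by rw [map_mul, map_mul]; exact hcomm _ (hle ⟨a, ha, rfl⟩) _ (hle ⟨b, hb, rfl⟩))

theorem section_sl2_of_hom {G : Type*} [Group G] {H : Subgroup G} (hp : p ≠ 2) {K : Type*} [Field K]
    [Finite K] [CharP K p] {c : K} (hc : c ≠ 0) (φ : H →* SL2 K) (hu : upperE c ∈ φ.range)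
    (hl : lowerE 1 ∈ φ.range) :
    ∃ (K L : Subgroup G) (_ : (L.subgroupOf K).Normal), K ≤ H ∧
      Nonempty ((K ⧸ L.subgroupOf K) ≃* SL2 (ZMod p)) := by
  obtain ⟨M, hM, ⟨e⟩⟩ := exists_sl2_zmod hp hc φ.range hu hl
  exact section_of_hom φ M hM e

/-- Baer–Suzuki for an element outside `O_p`. -/
theorem exists_pair_of_not_mem_pCore {X : Type*} [Group X] [Finite X] {x : X} (hx : x ∉ pCore p X) :
    ∃ g : X, ¬ IsPGroup p ↥(Subgroup.closure ({x, g * x * g⁻¹} : Set X)) := by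
  by_contra h
  push Not at h
  exact hx (Cores.le_pCore Subgroup.normalClosure_normal (Involution.baer_suzuki_element x h)
    (Subgroup.subset_normalClosure rfl))

variable {G : Type u} [Group G]

theorem closure_pair_eq_top (a b : G) :
    Subgroup.closure ({⟨a, Subgroup.subset_closure (Set.mem_insert _ _)⟩,
      ⟨b, Subgroup.subset_closure (Set.mem_insert_of_mem _ rfl)⟩} :
        Set ↥(Subgroup.closure ({a, b} : Set G))) = ⊤ := by
  apply Subgroup.map_injective (Subgroup.subtype_injective _)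
  rw [MonoidHom.map_closure, Set.image_pair, ← MonoidHom.range_eq_map, Subgroup.range_subtype]
  rfl

/-- A faithful failure of linear `p`-stability. -/
theorem section_sl2_of_faithful [Finite G] (hp : p ≠ 2) {V H : Subgroup G}
    (hV : IsElementaryAbelian p V) (hHV : H ≤ Subgroup.normalizer (V : Set G))
    (hf : H ⊓ Subgroup.centralizer (V : Set G) = ⊥) {a b : G} (hab : H = Subgroup.closure {a, b})
    (ha : ∀ v ∈ V, Commute a (a * v * a⁻¹ * v⁻¹)) (hb : ∀ v ∈ V, Commute b (b * v * b⁻¹ * v⁻¹))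
    (hnp : ¬ IsPGroup p H) :
    ∃ (K L : Subgroup G) (_ : (L.subgroupOf K).Normal), K ≤ H ∧
      Nonempty ((K ⧸ L.subgroupOf K) ≃* SL2 (ZMod p)) := by
  subst hab
  obtain ⟨g₀, hg₀⟩ := exists_not_pElement hnp
  obtain ⟨K, i1, i2, i3, c, hc, φ, hφa, hφb, -, -⟩ := exists_hom_sl2_of_ambient hV hHV
    (closure_pair_eq_top a b) ha hb g₀ (fun k h => hg₀ k (Subtype.ext (by
      rw [OneMemClass.coe_one, SubgroupClass.coe_pow, ← Subgroup.mem_bot (G := G), ← hf]
      exact ⟨pow_mem g₀.2 _, h⟩)))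
  haveI := i2
  haveI := i3
  exact section_sl2_of_hom hp hc φ ⟨_, hφa⟩ ⟨_, hφb⟩

theorem section_of_quotient (N : Subgroup G) [N.Normal] {T : Type*} [Group T] {H : Subgroup (G ⧸ N)}
    (h : ∃ (K L : Subgroup (G ⧸ N)) (_ : (L.subgroupOf K).Normal), K ≤ H ∧
      Nonempty ((K ⧸ L.subgroupOf K) ≃* T)) :
    ∃ (K L : Subgroup G) (_ : (L.subgroupOf K).Normal), K ≤ H.comap (QuotientGroup.mk' N) ∧
      Nonempty ((K ⧸ L.subgroupOf K) ≃* T) := by
  obtain ⟨K, L, hL, hKH, ⟨e⟩⟩ := h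
  let π := QuotientGroup.mk' N
  let q : ↥(K.comap π) →* T :=
    (e.toMonoidHom.comp (QuotientGroup.mk' (L.subgroupOf K))).comp (π.subgroupComap K)
  have hq : Function.Surjective q := by
    refine (e.surjective.comp (QuotientGroup.mk'_surjective _)).comp ?_
    rintro ⟨y, hy⟩
    obtain ⟨x, rfl⟩ := QuotientGroup.mk'_surjective N y
    exact ⟨⟨x, hy⟩, rfl⟩
  obtain ⟨K', L', hL', hK', hiso⟩ := section_of_hom q ⊤
    (by rw [MonoidHom.range_eq_top.2 hq]) Subgroup.topEquiv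
  exact ⟨K', L', hL', hK'.trans (Subgroup.comap_mono hKH), hiso⟩

private theorem exists_hom_sl2_of_pGroup_aux (n : ℕ) : ∀ {G : Type u} [Group G] [Finite G]
    {P : Subgroup G} [P.Normal] (_ : IsPGroup p P) {a b y : G}
    (_ : ∀ v ∈ P, Commute a (a * v * a⁻¹ * v⁻¹)) (_ : ∀ v ∈ P, Commute b (b * v * b⁻¹ * v⁻¹))
    (_ : y ∈ Subgroup.closure ({a, b} : Set G))
    (_ : ∀ k : ℕ, y ^ p ^ k ∉ Subgroup.centralizer (P : Set G)), Nat.card P = n →
    ∃ (K : Type u) (_ : Field K) (_ : Finite K) (_ : CharP K p) (c : K), c ≠ 0 ∧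
      ∃ φ : ↥(Subgroup.closure ({a, b} : Set G)) →* SL2 K,
        upperE c ∈ φ.range ∧ lowerE 1 ∈ φ.range := by
  induction n using Nat.strong_induction_on with
  | _ n ih =>
  intro G _ _ P hPn hP a b y ha hb hy hny hn
  have hP0 : P ≠ ⊥ := by
    rintro rfl
    exact hny 0 (Subgroup.mem_centralizer_iff.2 fun x hx => by
      rw [Subgroup.mem_bot.1 hx, one_mul, mul_one])
  haveI : Group.IsNilpotent P := hP.isNilpotent
  obtain ⟨q, hq, V, hVn, hV0, hVP, hVc, hVq, hVe, -⟩ := Solvable.exists_minimal_normal_pGroup hP0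
  obtain rfl : q = p := by
    haveI := Fact.mk hq
    obtain ⟨k, hk⟩ := IsPGroup.iff_card.1 hVq
    obtain ⟨l, hl⟩ := IsPGroup.iff_card.1 (hP.to_le hVP)
    rw [hk] at hl
    have hk0 : k ≠ 0 := by
      rintro rfl
      exact hV0 (Subgroup.card_eq_one.1 (by rw [hk, pow_zero]))
    exact (Nat.prime_dvd_prime_iff_eq hq Fact.out).1
      (hq.dvd_of_dvd_pow (n := l) (hl ▸ dvd_pow_self q hk0))
  haveI := hVn
  set H₀ := Subgroup.closure ({a, b} : Set G) with hH₀
  by_cases h1 : ∀ k : ℕ, y ^ q ^ k ∉ Subgroup.centralizer (V : Set G)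
  · obtain ⟨K, i1, i2, i3, c, hc, φ, hφa, hφb, -, -⟩ := exists_hom_sl2_of_ambient (p := q)
      (V := V) (H := H₀) ⟨hVc, hVe⟩ (fun x _ => by rw [Subgroup.normalizer_eq_top]; exact Subgroup.mem_top x)
      (closure_pair_eq_top a b) (fun v hv => ha v (hVP hv)) (fun v hv => hb v (hVP hv)) ⟨y, hy⟩ h1
    exact ⟨K, i1, i2, i3, c, hc, φ, ⟨_, hφa⟩, ⟨_, hφb⟩⟩
  set π := QuotientGroup.mk' V with hπ
  haveI : (P.map π).Normal := hPn.map π (QuotientGroup.mk'_surjective V)
  by_cases h2 : ∀ k : ℕ, π y ^ q ^ k ∉ Subgroup.centralizer ((P.map π : Subgroup (G ⧸ V)) : Set (G ⧸ V))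
  · have hlt : Nat.card (P.map π) < n := by
      have h := Solvable.card_eq_card_map_mul π P
      rw [hπ, QuotientGroup.ker_mk', inf_eq_right.2 hVP] at h
      rw [← hn, hπ, h]
      exact lt_mul_of_one_lt_right Nat.card_pos
        (Finite.one_lt_card_iff_nontrivial.2 ((Subgroup.nontrivial_iff_ne_bot V).2 hV0))
    have hquad : ∀ c : G, (∀ v ∈ P, Commute c (c * v * c⁻¹ * v⁻¹)) →
        ∀ v ∈ P.map π, Commute (π c) (π c * v * (π c)⁻¹ * v⁻¹) := by
      rintro c hc _ ⟨v, hv, rfl⟩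
      simpa using (hc v hv).map π
    have hcl : H₀.map π = Subgroup.closure ({π a, π b} : Set (G ⧸ V)) := by
      rw [hH₀, MonoidHom.map_closure, Set.image_pair]
    obtain ⟨K, i1, i2, i3, c, hc, φ, hu, hl⟩ := ih _ hlt (hP.map π) (hquad a ha) (hquad b hb)
      (hcl ▸ Subgroup.mem_map_of_mem π hy) h2 rfl
    let ψ : H₀ →* ↥(Subgroup.closure ({π a, π b} : Set (G ⧸ V))) :=
      (MulEquiv.subgroupCongr hcl).toMonoidHom.comp (π.subgroupMap H₀)
    have hψ : Function.Surjective ψ :=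
      (MulEquiv.subgroupCongr hcl).surjective.comp (π.subgroupMap_surjective H₀)
    have hr : (φ.comp ψ).range = φ.range := by
      rw [MonoidHom.range_comp, MonoidHom.range_eq_top.2 hψ, ← MonoidHom.range_eq_map]
    exact ⟨K, i1, i2, i3, c, hc, φ.comp ψ, hr.symm ▸ hu, hr.symm ▸ hl⟩
  exfalso
  push Not at h1 h2
  obtain ⟨m, hm⟩ := h1
  obtain ⟨l, hl⟩ := h2
  set z := y ^ q ^ (m + l) with hz
  have hzV : z ∈ Subgroup.centralizer (V : Set G) := by
    rw [hz, pow_add, pow_mul]; exact pow_mem hm _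
  have hzP : π z ∈ Subgroup.centralizer ((P.map π : Subgroup (G ⧸ V)) : Set (G ⧸ V)) := by
    rw [hz, map_pow, pow_add, mul_comm, pow_mul]; exact pow_mem hl _
  refine hny (m + l + 1) (Subgroup.mem_centralizer_iff.2 fun x hx => ?_)
  rw [pow_succ, pow_mul, ← hz]
  set v := x⁻¹ * (z * x * z⁻¹) with hv
  have hvV : v ∈ V := by
    rw [← QuotientGroup.eq_one_iff, ← QuotientGroup.mk'_apply V v, hv]
    have := Subgroup.mem_centralizer_iff.1 hzP (π x) (Subgroup.mem_map_of_mem π hx)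
    simp only [map_mul, map_inv]
    rw [← hπ, ← this]
    group
  have hzv : Commute z v := (Subgroup.mem_centralizer_iff.1 hzV v hvV).symm
  have hrec : ∀ i : ℕ, z ^ i * x * (z ^ i)⁻¹ = x * v ^ i := by
    intro i
    induction i with
    | zero => simp
    | succ i ihi =>
      calc z ^ (i + 1) * x * (z ^ (i + 1))⁻¹ = z * (z ^ i * x * (z ^ i)⁻¹) * z⁻¹ := by
            rw [pow_succ']; group
        _ = z * x * (v ^ i * z⁻¹) := by rw [ihi]; group
        _ = z * x * (z⁻¹ * v ^ i) := by rw [((hzv.pow_right i).inv_left).eq]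
        _ = (x * v) * v ^ i := by rw [hv]; group
        _ = x * v ^ (i + 1) := by rw [pow_succ', mul_assoc]
  have h := hrec q
  rw [hVe v hvV, mul_one, mul_inv_eq_iff_eq_mul] at h
  exact h.symm

theorem exists_hom_sl2_of_pGroup [Finite G] {P : Subgroup G} [P.Normal] (hP : IsPGroup p P)
    {a b y : G} (ha : ∀ v ∈ P, Commute a (a * v * a⁻¹ * v⁻¹))
    (hb : ∀ v ∈ P, Commute b (b * v * b⁻¹ * v⁻¹)) (hy : y ∈ Subgroup.closure ({a, b} : Set G))
    (hny : ∀ k : ℕ, y ^ p ^ k ∉ Subgroup.centralizer (P : Set G)) :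
    ∃ (K : Type u) (_ : Field K) (_ : Finite K) (_ : CharP K p) (c : K), c ≠ 0 ∧
      ∃ φ : ↥(Subgroup.closure ({a, b} : Set G)) →* SL2 K,
        upperE c ∈ φ.range ∧ lowerE 1 ∈ φ.range :=
  exists_hom_sl2_of_pGroup_aux _ hP ha hb hy hny rfl

/-- Failure of `p`-stability on a normal `p`-subgroup gives a section `SL₂(p)`. -/
theorem section_sl2_of_not_stable [Finite G] (hp : p ≠ 2) {P : Subgroup G} [P.Normal]
    (hP : IsPGroup p P) {a : G} (ha : ∀ v ∈ P, Commute a (a * v * a⁻¹ * v⁻¹))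
    (hna : (QuotientGroup.mk a : G ⧸ Subgroup.centralizer (P : Set G)) ∉
      pCore p (G ⧸ Subgroup.centralizer (P : Set G))) :
    ∃ (K L : Subgroup G) (_ : (L.subgroupOf K).Normal),
      K ≤ ⊤ ∧ Nonempty ((K ⧸ L.subgroupOf K) ≃* SL2 (ZMod p)) := by
  obtain ⟨g, hg⟩ := exists_pair_of_not_mem_pCore hna
  obtain ⟨g, rfl⟩ := QuotientGroup.mk_surjective g
  set C := Subgroup.centralizer (P : Set G)
  set π := QuotientGroup.mk' C
  obtain ⟨y, hy, hny⟩ : ∃ y ∈ Subgroup.closure ({a, g * a * g⁻¹} : Set G),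
      ∀ k : ℕ, y ^ p ^ k ∉ C := by
    by_contra h
    push Not at h
    apply hg
    intro x
    have hx : (x : G ⧸ C) ∈ (Subgroup.closure ({a, g * a * g⁻¹} : Set G)).map π := by
      rw [MonoidHom.map_closure, Set.image_pair]
      exact x.2
    obtain ⟨y, hy, hyx⟩ := hx
    obtain ⟨k, hk⟩ := h y hy
    refine ⟨k, Subtype.ext ?_⟩
    rw [SubgroupClass.coe_pow, OneMemClass.coe_one, ← hyx, ← map_pow]
    exact (QuotientGroup.eq_one_iff _).2 hk
  obtain ⟨K, i1, i2, i3, c, hc, φ, hu, hl⟩ := exists_hom_sl2_of_pGroup hP ha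
    (commute_of_quad_conj (by rw [Subgroup.normalizer_eq_top]; exact Subgroup.mem_top g) ha) hy hny
  haveI := i2
  haveI := i3
  obtain ⟨K', L, hL, -, h⟩ := section_sl2_of_hom hp hc φ hu hl
  exact ⟨K', L, hL, le_top, h⟩

end Cfsg.Agent.Quadratic
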