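import Cfsg.Agent.Lib.Quadratic.Ambient
import Cfsg.Agent.Lib.Quadratic.Unipotent

/-!
# Sections coming from quadratic pairs (namespace `Cfsg.Agent.Quadratic`)

* `eq_bot_of_normalised`: a `p`-subgroup of `SL₂` normalised by `upperE c` and `lowerE 1` is trivial
* `section_of_hom`: a subgroup of the image of `φ : H →* S` gives a section of `G` below `H`
* `section_of_move`: a quadratic pair one of which moves a `p'`-section gives `p = 3` and `SL₂(3)`
-/

set_option autoImplicit false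
set_option linter.unusedSectionVars false

namespace Cfsg.Agent.Quadratic

open Cfsg PSL2 Matrix

universe u

theorem eq_bot_of_normalised {K : Type*} [Field K] [Finite K] {p : ℕ} [Fact p.Prime] [CharP K p]
    {c : K} (hc : c ≠ 0) {R : Subgroup (SL2 K)} (hR : IsPGroup p R)
    (hu : upperE c ∈ Subgroup.normalizer (R : Set (SL2 K)))
    (hl : lowerE 1 ∈ Subgroup.normalizer (R : Set (SL2 K))) : R = ⊥ := by
  classical
  have hsm : ∀ (r : R) (v : Fin 2 → K), r • v = (r : SL2 K).1 *ᵥ v := fun _ _ => rfl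
  let F : Submodule K (Fin 2 → K) :=
    { carrier := {v | ∀ r ∈ R, r.1 *ᵥ v = v}
      add_mem' := fun {v w} hv hw r hr => by rw [Matrix.mulVec_add, hv r hr, hw r hr]
      zero_mem' := fun r _ => Matrix.mulVec_zero _
      smul_mem' := fun k v hv r hr => by rw [Matrix.mulVec_smul, hv r hr] }
  have hinv : ∀ g ∈ Subgroup.normalizer (R : Set (SL2 K)), ∀ v ∈ F, g.1 *ᵥ v ∈ F := by
    intro g hg v hv r hr
    have h := hv _ ((Subgroup.mem_normalizer_iff''.1 hg r).1 hr)
    conv_rhs => rw [← h]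
    rw [Matrix.mulVec_mulVec, Matrix.mulVec_mulVec]
    congr 1
    rw [← Matrix.SpecialLinearGroup.coe_mul, ← Matrix.SpecialLinearGroup.coe_mul,
      show g * (g⁻¹ * r * g) = r * g by group]
  obtain ⟨v, hvF, hv0⟩ : ∃ v ∈ F, v ≠ 0 := by
    have hpd : p ∣ Nat.card (Fin 2 → K) := by
      rw [Nat.card_fun, Nat.card_eq_fintype_card (α := Fin 2), Fintype.card_fin]
      refine dvd_pow ?_ two_ne_zero
      haveI := Fintype.ofFinite K
      rw [Nat.card_eq_fintype_card]
      exact (CharP.cast_eq_zero_iff K p _).1 (Nat.cast_card_eq_zero K)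
    obtain ⟨w, hw, hne⟩ := hR.exists_fixed_point_of_prime_dvd_card_of_fixed_point (Fin 2 → K) hpd
      (show (0 : Fin 2 → K) ∈ MulAction.fixedPoints R (Fin 2 → K) from
        fun r => by rw [hsm, Matrix.mulVec_zero])
    exact ⟨w, fun r hr => hw ⟨r, hr⟩, fun h => hne h.symm⟩
  have he0 : (![1, 0] : Fin 2 → K) ∈ F := by
    have hu' := F.sub_mem (hinv _ hu v hvF) hvF
    have e : (upperE c).1 *ᵥ v - v = (c * v 1) • ![1, 0] := by
      ext i
      fin_cases i <;> simp [upperE, Matrix.mulVec, dotProduct, Fin.sum_univ_two]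
    rw [e] at hu'
    by_cases h1 : v 1 = 0
    · have e' : v = (v 0) • ![1, 0] := by ext i; fin_cases i <;> simp [h1]
      refine (Submodule.smul_mem_iff F (fun h0 => hv0 ?_)).1 (e' ▸ hvF)
      rw [e', h0, zero_smul]
    · exact (Submodule.smul_mem_iff F (mul_ne_zero hc h1)).1 hu'
  have he1 : (![0, 1] : Fin 2 → K) ∈ F := by
    have hl' := F.sub_mem (hinv _ hl _ he0) he0
    have e : (lowerE (1 : K)).1 *ᵥ ![1, 0] - ![1, 0] = ![0, 1] := by
      ext i
      fin_cases i <;> simp [lowerE, Matrix.mulVec, dotProduct, Fin.sum_univ_two]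
    rwa [e] at hl'
  rw [Subgroup.eq_bot_iff_forall]
  intro r hr
  ext i j
  fin_cases j
  · have := congrFun (he0 r hr) i
    fin_cases i <;> simpa [Matrix.mulVec, dotProduct, Fin.sum_univ_two] using this
  · have := congrFun (he1 r hr) i
    fin_cases i <;> simpa [Matrix.mulVec, dotProduct, Fin.sum_univ_two] using this

theorem section_of_hom {G : Type*} [Group G] {H : Subgroup G} {S : Type*} [Group S] (φ : H →* S)
    (M : Subgroup S) (hM : M ≤ φ.range) {T : Type*} [Group T] (e : M ≃* T) :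
    ∃ (K L : Subgroup G) (_ : (L.subgroupOf K).Normal), K ≤ H ∧
      Nonempty ((K ⧸ L.subgroupOf K) ≃* T) := by
  set K := (M.comap φ).map H.subtype with hK
  set L := φ.ker.map H.subtype with hL
  have hKH : K ≤ H := Subgroup.map_subtype_le _
  have hmem : ∀ k : K, φ ⟨k, hKH k.2⟩ ∈ M := by
    rintro ⟨_, x, hx, rfl⟩
    exact hx
  let f : K →* M := MonoidHom.mk' (fun k => ⟨φ ⟨k, hKH k.2⟩, hmem k⟩)
    fun x y => Subtype.ext (map_mul φ ⟨x, hKH x.2⟩ ⟨y, hKH y.2⟩)
  have hf : Function.Surjective f := by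
    rintro ⟨m, hm⟩
    obtain ⟨x, rfl⟩ := hM hm
    exact ⟨⟨x, x, hm, rfl⟩, rfl⟩
  have hker : L.subgroupOf K = f.ker := by
    ext k
    rw [Subgroup.mem_subgroupOf, MonoidHom.mem_ker]
    constructor
    · rintro ⟨x, hx, hxk⟩
      refine Subtype.ext ?_
      show φ ⟨k, hKH k.2⟩ = 1
      rw [show (⟨k, hKH k.2⟩ : H) = x from Subtype.ext hxk.symm]
      exact hx
    · intro h
      exact ⟨⟨k, hKH k.2⟩, congrArg Subtype.val h, rfl⟩
  refine ⟨K, L, hker ▸ inferInstance, hKH, ⟨?_⟩⟩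
  haveI : (L.subgroupOf K).Normal := hker ▸ inferInstance
  exact ((QuotientGroup.quotientMulEquivOfEq hker).trans
    (QuotientGroup.quotientKerEquivOfSurjective f hf)).trans e

/-- A quadratic pair `a, b` generating `H`, and `a` not centralising the `p'`-section `Q/R` of `H`. -/
theorem section_of_move {G : Type u} [Group G] [Finite G] {p : ℕ} [Fact p.Prime] (hp : p ≠ 2)
    {V H : Subgroup G} (hV : IsElementaryAbelian p V) (hHV : H ≤ Subgroup.normalizer (V : Set G))
    (hf : H ⊓ Subgroup.centralizer (V : Set G) = ⊥) {a b : H}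
    (hgen : Subgroup.closure ({a, b} : Set H) = ⊤)
    (ha : ∀ v ∈ V, Commute (a : G) ((a : G) * v * (a : G)⁻¹ * v⁻¹))
    (hb : ∀ v ∈ V, Commute (b : G) ((b : G) * v * (b : G)⁻¹ * v⁻¹))
    {Q R : Subgroup H} [Q.Normal] [R.Normal] (hRQ : R ≤ Q) (hR : IsPGroup p R)
    (hQR : (R.relIndex Q).Coprime p) {q : H} (hq : q ∈ Q) (hc : a * q * a⁻¹ * q⁻¹ ∉ R) :
    p = 3 ∧ ∃ (K L : Subgroup G) (_ : (L.subgroupOf K).Normal), K ≤ H ∧
      Nonempty ((K ⧸ L.subgroupOf K) ≃* Matrix.SpecialLinearGroup (Fin 2) (ZMod p)) := by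
  have hcQ : a * q * a⁻¹ * q⁻¹ ∈ Q :=
    mul_mem (Subgroup.Normal.conj_mem ‹_› q hq a) (inv_mem hq)
  -- a power of the commutator of order prime to p
  have hnp : ∀ k : ℕ, (a * q * a⁻¹ * q⁻¹) ^ p ^ k ∉ R := by
    intro k hk
    apply hc
    rw [← QuotientGroup.eq_one_iff] at hk ⊢
    rw [QuotientGroup.mk_pow] at hk
    have hord : (orderOf (QuotientGroup.mk (a * q * a⁻¹ * q⁻¹) : H ⧸ R)).Coprime p := by
      refine hQR.coprime_dvd_left ?_
      have h : R.relIndex Q = Nat.card (Q.map (QuotientGroup.mk' R)) := by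
        conv_lhs => rw [← QuotientGroup.ker_mk' R]
        rw [← MonoidHom.comap_bot, Subgroup.relIndex_comap, Subgroup.relIndex_bot_left]
      rw [h]
      exact Subgroup.orderOf_dvd_natCard _ (Subgroup.mem_map_of_mem _ hcQ)
    exact orderOf_eq_one_iff.1 (Nat.eq_one_of_dvd_coprimes (hord.pow_right k) dvd_rfl
      (orderOf_dvd_of_pow_eq_one hk))
  obtain ⟨K, i1, i2, i3, c, hc0, φ, hφa, hφb, hφk, hφ0⟩ := exists_hom_sl2_of_ambient hV hHV hgen ha hb
    (a * q * a⁻¹ * q⁻¹) (fun k h => hnp k (by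
      have : (a * q * a⁻¹ * q⁻¹) ^ p ^ k = 1 := Subtype.ext (by
        rw [OneMemClass.coe_one, SubgroupClass.coe_pow, ← Subgroup.mem_bot (G := G), ← hf]
        exact ⟨pow_mem (SetLike.coe_mem _) _, h⟩)
      rw [this]
      exact one_mem R))
  haveI := i2
  haveI := i3
  have hnorm : ∀ T : Subgroup H, T.Normal → ∀ x : H,
      φ x ∈ Subgroup.normalizer ((T.map φ : Subgroup (SL2 K)) : Set (SL2 K)) := fun T hT x => by
    refine Subgroup.le_normalizer_map φ ⟨x, ?_, rfl⟩
    rw [Subgroup.normalizer_eq_top]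
    exact Subgroup.mem_top x
  have hR' : R.map φ = ⊥ := eq_bot_of_normalised hc0 (hR.map φ)
    (hφa ▸ hnorm R inferInstance a) (hφb ▸ hnorm R inferInstance b)
  have hcard : (Nat.card (Q.map φ)).Coprime p := by
    refine hQR.coprime_dvd_left ?_
    rw [← Subgroup.relIndex_ker]
    refine Subgroup.relIndex_dvd_of_le_left Q ?_
    rw [← MonoidHom.comap_bot, ← hR']
    exact Subgroup.le_comap_map φ R
  obtain ⟨hp3, M, hM, ⟨e⟩⟩ := exists_sl2_three hp hc0 (Q.map φ) hcard
    (fun x hx => (Subgroup.mem_normalizer_iff.1 (hφa ▸ hnorm Q inferInstance a) x).1 hx)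
    ⟨φ q, Subgroup.mem_map_of_mem φ hq, fun h => hφ0 0 (by
      rw [pow_zero, pow_one, map_mul, map_mul, map_mul, map_inv, map_inv, hφa, h, mul_inv_cancel])⟩
  have hMr : M ≤ φ.range := hM.trans (by
    rw [Subgroup.closure_le, Set.insert_subset_iff]
    exact ⟨⟨a, hφa⟩, Subgroup.map_le_range φ Q⟩)
  subst hp3
  exact ⟨rfl, section_of_hom φ M hMr e⟩

end Cfsg.Agent.Quadratic
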