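import Cfsg.Agent.EqLemmas

/-!
# Two quadratically acting elements (namespace `Cfsg.Agent.Quadratic`)

* `upperE`, `lowerE`: the unitriangular matrices of `SL₂`
* `IsQuad ρ g`: `(ρ g - 1)² = 0`; `pow_apply`, `pow_char_of_isQuad`
* `exists_hom_sl2_of_pair`: a pair of quadratic operators without common invariant subspace whose
  anticommutator is scalar gives a 2-dimensional faithful model
* `exists_hom_sl2`: two quadratic generators and an element `g₀` whose image is not a `p`-element give
  `φ : G →* SL₂(K)` sending them to `upperE c` (`c ≠ 0`), `lowerE 1`, with `φ g₀` not a `p`-element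
-/

set_option autoImplicit false
set_option linter.unusedSectionVars false

namespace Cfsg.Agent.Quadratic

open Matrix

universe u v w

section Mat

variable {K : Type*} [Field K]

/-- `[[1, c], [0, 1]]`. -/
def upperE (c : K) : SpecialLinearGroup (Fin 2) K :=
  ⟨!![1, c; 0, 1], by simp [Matrix.det_fin_two_of]⟩

/-- `[[1, 0], [c, 1]]`. -/
def lowerE (c : K) : SpecialLinearGroup (Fin 2) K :=
  ⟨!![1, 0; c, 1], by simp [Matrix.det_fin_two_of]⟩

theorem upperE_val (c : K) : (upperE c).1 = !![1, c; 0, 1] := rfl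

theorem lowerE_val (c : K) : (lowerE c).1 = !![1, 0; c, 1] := rfl

theorem upperE_mul (c d : K) : upperE c * upperE d = upperE (c + d) := by
  apply Subtype.ext
  show (!![1, c; 0, 1] * !![1, d; 0, 1] : Matrix (Fin 2) (Fin 2) K) = !![1, c + d; 0, 1]
  ext i j; fin_cases i <;> fin_cases j <;> simp [Matrix.mul_apply, Fin.sum_univ_two, add_comm]

theorem upperE_zero : upperE (0 : K) = 1 := Subtype.ext (Matrix.one_fin_two).symm

theorem upperE_pow (c : K) (n : ℕ) : upperE c ^ n = upperE (n * c) := by
  induction n with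
  | zero => simp [upperE_zero]
  | succ n ih => rw [pow_succ, ih, upperE_mul]; congr 1; push_cast; ring

theorem upperE_injective : Function.Injective (upperE : K → _) := fun c d h => by
  have := congrFun (congrFun (congrArg Subtype.val h) 0) 1
  simpa [upperE] using this

theorem upperE_eq_one_iff {c : K} : upperE c = 1 ↔ c = 0 := by
  rw [← upperE_zero, upperE_injective.eq_iff]

theorem upperE_pow_char (p : ℕ) [CharP K p] (c : K) : upperE c ^ p = 1 := by
  rw [upperE_pow, CharP.cast_eq_zero K p, zero_mul, upperE_zero]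

end Mat

section Quad

variable {R : Type*} [CommRing R] {V : Type*} [AddCommGroup V] [Module R V] {G : Type*} [Group G]

/-- `g` acts quadratically: `(ρ g - 1)² = 0`. -/
def IsQuad (ρ : G →* Module.End R V) (g : G) : Prop :=
  ∀ v : V, ρ g (ρ g v - v) = ρ g v - v

theorem apply_mul (ρ : G →* Module.End R V) (g h : G) (v : V) : ρ (g * h) v = ρ g (ρ h v) := by
  rw [map_mul]; rfl

theorem apply_one (ρ : G →* Module.End R V) (v : V) : ρ 1 v = v := by
  rw [map_one]; rfl

theorem apply_inv_self (ρ : G →* Module.End R V) (g : G) (v : V) : ρ g⁻¹ (ρ g v) = v := by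
  rw [← apply_mul, inv_mul_cancel, apply_one]

theorem apply_self_inv (ρ : G →* Module.End R V) (g : G) (v : V) : ρ g (ρ g⁻¹ v) = v := by
  rw [← apply_mul, mul_inv_cancel, apply_one]

/-- Powers of a quadratic operator. -/
theorem pow_apply {ρ : G →* Module.End R V} {g : G} (h : IsQuad ρ g) (n : ℕ) (v : V) :
    ρ (g ^ n) v = v + n • (ρ g v - v) := by
  induction n with
  | zero => simp [apply_one]
  | succ n ih =>
    rw [pow_succ', apply_mul, ih, map_add, map_nsmul, h, succ_nsmul]
    abel

/-- In characteristic `p` a quadratic operator has order dividing `p`. -/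
theorem pow_char_of_isQuad {p : ℕ} (hV : ∀ v : V, p • v = 0) {ρ : G →* Module.End R V} {g : G}
    (h : IsQuad ρ g) : ρ (g ^ p) = 1 := by
  ext v
  rw [pow_apply h, hV, add_zero]
  rfl

/-- A subgroup generated set: invariance of a subset under the generators gives invariance. -/
theorem apply_mem_of_closure [Finite G] {S : Set G} (hS : Subgroup.closure S = ⊤)
    (ρ : G →* Module.End R V) (W : Set V) (hW : ∀ s ∈ S, ∀ w ∈ W, ρ s w ∈ W) (g : G) :
    ∀ w ∈ W, ρ g w ∈ W := by
  have hg : g ∈ Submonoid.closure S := by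
    rw [← Subgroup.closure_toSubmonoid_of_finite, Subgroup.mem_toSubmonoid, hS]
    exact Subgroup.mem_top g
  induction hg using Submonoid.closure_induction with
  | mem x hx => exact hW x hx
  | one => intro w hw; rw [apply_one]; exact hw
  | mul x y _ _ hx hy => intro w hw; rw [apply_mul]; exact hx _ (hy w hw)

end Quad

section Pair

variable {K : Type u} [Field K] {W : Type v} [AddCommGroup W] [Module K W]
  {G : Type w} [Group G] [Finite G]

/-- Two quadratic operators without a common invariant subspace whose anticommutator is a scalar `μ`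
act as `[[1, μ], [0, 1]]`, `[[1, 0], [1, 1]]` on a two dimensional space. -/
theorem exists_hom_sl2_of_pair (ρ : G →* Module.End K W) {a b : G}
    (hgen : Subgroup.closure ({a, b} : Set G) = ⊤)
    (ha : IsQuad ρ a) (hb : IsQuad ρ b)
    (hirr : ∀ U : Submodule K W, (∀ u ∈ U, ρ a u ∈ U) → (∀ u ∈ U, ρ b u ∈ U) → U = ⊥ ∨ U = ⊤)
    (hne : ∃ g, ρ g ≠ 1) (μ : K)
    (hμ : ∀ w, (ρ a (ρ b w - w) - (ρ b w - w)) + (ρ b (ρ a w - w) - (ρ a w - w)) = μ • w) :
    μ ≠ 0 ∧ ∃ φ : G →* SpecialLinearGroup (Fin 2) K,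
      φ a = upperE μ ∧ φ b = lowerE 1 ∧ ∀ g, φ g = 1 ↔ ρ g = 1 := by
  classical
  have hnt : ∃ v : W, v ≠ 0 := by
    obtain ⟨g, hg⟩ := hne
    by_contra h
    push Not at h
    exact hg (LinearMap.ext fun v => by rw [h (ρ g v), h v, map_zero])
  obtain ⟨w, hw0, hwA⟩ : ∃ w : W, w ≠ 0 ∧ ρ a w = w := by
    obtain ⟨v, hv⟩ := hnt
    by_cases h : ρ a v = v
    · exact ⟨v, hv, h⟩
    · exact ⟨ρ a v - v, sub_ne_zero.2 h, ha v⟩
  set w' := ρ b w - w with hw'
  have hbw' : ρ b w' = w' := hb w
  have haw' : ρ a w' = w' + μ • w := by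
    have h := hμ w
    rw [hwA, sub_self, map_zero, sub_zero, add_zero, ← hw', sub_eq_iff_eq_add'] at h
    exact h
  have hbw : ρ b w = w + w' := (add_sub_cancel w (ρ b w)).symm
  have hspan : Submodule.span K {w, w'} = ⊤ := by
    refine (hirr _ ?_ ?_).resolve_left ?_
    · intro u hu
      obtain ⟨s, t, rfl⟩ := Submodule.mem_span_pair.1 hu
      rw [map_add, map_smul, map_smul, hwA, haw', smul_add, smul_smul]
      exact Submodule.mem_span_pair.2 ⟨s + t * μ, t, by rw [add_smul]; abel⟩
    · intro u hu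
      obtain ⟨s, t, rfl⟩ := Submodule.mem_span_pair.1 hu
      rw [map_add, map_smul, map_smul, hbw, hbw', smul_add]
      exact Submodule.mem_span_pair.2 ⟨s, s + t, by rw [add_smul]; abel⟩
    · intro h
      exact hw0 ((Submodule.mem_bot K).1 (h ▸ Submodule.subset_span (Set.mem_insert w _)))
  have hli : ∀ s t : K, s • w + t • w' = 0 → s = 0 ∧ t = 0 := by
    intro s t hst
    by_cases ht : t = 0
    · subst ht
      rw [zero_smul, add_zero] at hst
      exact ⟨(smul_eq_zero.1 hst).resolve_right hw0, rfl⟩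
    exfalso
    have hw'K : w' = (-t⁻¹ * s) • w := by
      have : t⁻¹ • (s • w + t • w') = 0 := by rw [hst, smul_zero]
      rw [smul_add, smul_smul, smul_smul, inv_mul_cancel₀ ht, one_smul, add_eq_zero_iff_neg_eq] at this
      rw [← this, neg_mul, neg_smul]
    set r := -t⁻¹ * s
    have hr : r • w' = 0 := by
      have h := hbw'
      rw [hw'K, map_smul, hbw, smul_add, add_eq_left] at h
      exact h
    have hw'0 : w' = 0 := by
      rcases smul_eq_zero.1 hr with h | h
      · rw [hw'K, h, zero_smul]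
      · exact h
    have hall : ∀ v : W, ∃ x : K, v = x • w := fun v => by
      have hv : v ∈ Submodule.span K {w, w'} := hspan ▸ Submodule.mem_top
      obtain ⟨x, y, rfl⟩ := Submodule.mem_span_pair.1 hv
      exact ⟨x, by rw [hw'0, smul_zero, add_zero]⟩
    obtain ⟨g, hg⟩ := hne
    apply hg
    ext v
    obtain ⟨x, rfl⟩ := hall v
    have hfix : ρ g w = w := by
      have := apply_mem_of_closure hgen ρ {w} (by
        rintro s (rfl | rfl) u hu <;> rw [Set.mem_singleton_iff] at hu ⊢ <;> subst hu
        · exact hwA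
        · exact sub_eq_zero.1 hw'0) g w rfl
      exact this
    rw [map_smul, hfix]
    rfl
  have hind : LinearIndependent K ![w, w'] := LinearIndependent.pair_iff.2 hli
  have hμ0 : μ ≠ 0 := by
    intro h
    rw [h, zero_smul, add_zero] at haw'
    have hw'0 : w' ≠ 0 := fun h0 => by
      have := hli 0 1 (by rw [h0, zero_smul, smul_zero, add_zero])
      exact one_ne_zero this.2
    rcases hirr (Submodule.span K {w'})
      (fun u hu => by
        obtain ⟨t, rfl⟩ := Submodule.mem_span_singleton.1 hu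
        rw [map_smul, haw']; exact hu)
      (fun u hu => by
        obtain ⟨t, rfl⟩ := Submodule.mem_span_singleton.1 hu
        rw [map_smul, hbw']; exact hu) with h1 | h1
    · exact hw'0 (Submodule.span_singleton_eq_bot.1 h1)
    · have : w ∈ Submodule.span K {w'} := h1 ▸ Submodule.mem_top
      obtain ⟨t, ht⟩ := Submodule.mem_span_singleton.1 this
      exact one_ne_zero (hli 1 (-t) (by rw [one_smul, neg_smul, ht, add_neg_cancel])).1
  let bas : Module.Basis (Fin 2) K W := Module.Basis.mk hind (by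
    rw [Matrix.range_cons, Matrix.range_cons, Matrix.range_empty, Set.union_empty, Set.singleton_union,
      hspan])
  have hb0 : bas 0 = w := by simp [bas]
  have hb1 : bas 1 = w' := by simp [bas]
  let M : G →* Matrix (Fin 2) (Fin 2) K :=
    (LinearMap.toMatrixAlgEquiv bas).toAlgHom.toMonoidHom.comp ρ
  have hMapp : ∀ g i j, M g i j = bas.repr (ρ g (bas j)) i := fun g i j => by
    simp [M, LinearMap.toMatrixAlgEquiv_apply]
  have e0 : bas.repr w = Finsupp.single 0 1 := by rw [← hb0, bas.repr_self]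
  have e1 : bas.repr w' = Finsupp.single 1 1 := by rw [← hb1, bas.repr_self]
  have hMa : M a = !![1, μ; 0, 1] := by
    ext i j
    fin_cases j
    · fin_cases i <;> simp [hMapp, hb0, hwA, e0]
    · fin_cases i <;> simp [hMapp, hb1, haw', e0, e1]
  have hMb : M b = !![1, 0; 1, 1] := by
    ext i j
    fin_cases j
    · fin_cases i <;> simp [hMapp, hb0, hbw, e0, e1]
    · fin_cases i <;> simp [hMapp, hb1, hbw', e1]
  have hdet : ∀ g, (M g).det = 1 := by
    intro g
    have hg : g ∈ Submonoid.closure ({a, b} : Set G) := by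
      rw [← Subgroup.closure_toSubmonoid_of_finite, Subgroup.mem_toSubmonoid, hgen]
      exact Subgroup.mem_top g
    induction hg using Submonoid.closure_induction with
    | mem x hx =>
      rcases hx with rfl | rfl
      · rw [hMa, Matrix.det_fin_two_of]; ring
      · rw [hMb, Matrix.det_fin_two_of]; ring
    | one => rw [map_one, Matrix.det_one]
    | mul x y _ _ hx hy => rw [map_mul, Matrix.det_mul, hx, hy, one_mul]
  let φ : G →* SpecialLinearGroup (Fin 2) K := MonoidHom.mk' (fun g => ⟨M g, hdet g⟩)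
    fun x y => Subtype.ext (map_mul M x y)
  refine ⟨hμ0, φ, Subtype.ext hMa, Subtype.ext hMb, fun g => ?_⟩
  constructor
  · intro h
    have h' : M g = 1 := congrArg Subtype.val h
    exact (LinearMap.toMatrixAlgEquiv bas).injective (h'.trans (map_one _).symm)
  · intro h
    refine Subtype.ext ?_
    show (LinearMap.toMatrixAlgEquiv bas) (ρ g) = 1
    rw [h, map_one]

end Pair

section Descend

variable {p : ℕ} [Fact p.Prime]

/-- The action of `S ⊆ End V` as scalars commuting with `ρ`. -/
theorem exists_hom_sl2_irreducible {V : Type u} [AddCommGroup V] [Module (ZMod p) V] [Finite V]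
    {G : Type v} [Group G] [Finite G] (ρ : G →* Module.End (ZMod p) V) {a b : G}
    (hgen : Subgroup.closure ({a, b} : Set G) = ⊤) (ha : IsQuad ρ a) (hb : IsQuad ρ b)
    (hne : ∃ g, ρ g ≠ 1)
    (hirr : ∀ U : Submodule (ZMod p) V, (∀ g, ∀ u ∈ U, ρ g u ∈ U) → U = ⊥ ∨ U = ⊤) :
    ∃ (K : Type u) (_ : Field K) (_ : Finite K) (_ : CharP K p) (c : K), c ≠ 0 ∧
      ∃ φ : G →* SpecialLinearGroup (Fin 2) K,
        φ a = upperE c ∧ φ b = lowerE 1 ∧ ∀ g, φ g = 1 ↔ ρ g = 1 := by
  classical
  set C : Module.End (ZMod p) V := (ρ a - 1) * (ρ b - 1) + (ρ b - 1) * (ρ a - 1) with hC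
  have hqa : (ρ a - 1) * (ρ a - 1) = 0 := by
    ext v
    simp [ha v]
  have hqb : (ρ b - 1) * (ρ b - 1) = 0 := by
    ext v
    simp [hb v]
  have hCa : C * ρ a = ρ a * C := by
    have : C * (ρ a - 1) = (ρ a - 1) * C := by
      rw [hC, add_mul, mul_add, mul_assoc _ (ρ a - 1) (ρ a - 1), hqa, mul_zero, add_zero,
        ← mul_assoc (ρ a - 1) (ρ a - 1), hqa, zero_mul, zero_add, mul_assoc]
    rw [mul_sub, sub_mul, mul_one, one_mul, sub_left_inj] at this
    exact this
  have hCb : C * ρ b = ρ b * C := by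
    have : C * (ρ b - 1) = (ρ b - 1) * C := by
      rw [hC, add_mul, mul_add, mul_assoc _ (ρ b - 1) (ρ b - 1), hqb, mul_zero, zero_add,
        ← mul_assoc (ρ b - 1) (ρ b - 1), hqb, zero_mul, add_zero, mul_assoc]
    rw [mul_sub, sub_mul, mul_one, one_mul, sub_left_inj] at this
    exact this
  let S : Subalgebra (ZMod p) (Module.End (ZMod p) V) := Algebra.adjoin (ZMod p) {C}
  have hcomm : ∀ s ∈ S, ∀ g, s * ρ g = ρ g * s := by
    intro s hs g
    have hg : g ∈ Submonoid.closure ({a, b} : Set G) := by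
      rw [← Subgroup.closure_toSubmonoid_of_finite, Subgroup.mem_toSubmonoid, hgen]
      exact Subgroup.mem_top g
    induction hg using Submonoid.closure_induction with
    | mem x hx =>
      have hle : S ≤ Subalgebra.centralizer (ZMod p) {ρ x} :=
        Algebra.adjoin_le (Set.singleton_subset_iff.2 (Subalgebra.mem_centralizer_iff _ |>.2 (by
          intro y hy
          rw [Set.mem_singleton_iff] at hy
          subst hy
          rcases hx with rfl | rfl
          · exact hCa.symm
          · exact hCb.symm)))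
      exact (Subalgebra.mem_centralizer_iff _ |>.1 (hle hs) (ρ x) rfl).symm
    | one => rw [map_one, mul_one, one_mul]
    | mul x y _ _ hx hy => rw [map_mul, ← mul_assoc, hx, mul_assoc, hy, mul_assoc]
  haveI : Nontrivial V := by
    by_contra h
    rw [not_nontrivial_iff_subsingleton] at h
    obtain ⟨g, hg⟩ := hne
    exact hg (LinearMap.ext fun v => Subsingleton.elim _ _)
  have hinj : ∀ s : S, s ≠ 0 → Function.Injective (s : Module.End (ZMod p) V) := by
    intro s hs
    rw [← LinearMap.ker_eq_bot]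
    refine (hirr _ fun g u hu => ?_).resolve_right fun h => hs (Subtype.ext (LinearMap.ker_eq_top.1 h))
    rw [LinearMap.mem_ker] at hu ⊢
    rw [show (s : Module.End (ZMod p) V) (ρ g u) = ((s : Module.End (ZMod p) V) * ρ g) u from rfl,
      hcomm s s.2 g, Module.End.mul_apply, hu, map_zero]
  haveI : Finite (Module.End (ZMod p) V) := Finite.of_injective _ (DFunLike.coe_injective)
  letI : CommRing S :=
    { (inferInstance : Ring S) with
      mul_comm := fun x y => Subtype.ext
        (Algebra.commute_of_mem_adjoin_singleton_of_commute y.2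
          (Algebra.commute_of_mem_adjoin_self x.2).symm).eq }
  haveI : NoZeroDivisors S := ⟨fun {x y} hxy => by
    by_contra h
    push Not at h
    apply h.2
    refine Subtype.ext (LinearMap.ext fun v => hinj x h.1 ?_)
    simpa using LinearMap.congr_fun (congrArg Subtype.val hxy) v⟩
  haveI : Nontrivial S := ⟨0, 1, fun h => by
    obtain ⟨v, hv⟩ := exists_ne (0 : V)
    exact hv (LinearMap.congr_fun (congrArg Subtype.val h).symm v)⟩
  haveI : IsDomain S := NoZeroDivisors.to_isDomain S
  letI : Field S := (Finite.isField_of_domain S).toField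
  haveI : CharP S p := charP_of_injective_algebraMap (algebraMap (ZMod p) S).injective p
  let ρS : G →* Module.End S V :=
    { toFun := fun g =>
        { toFun := ρ g
          map_add' := map_add (ρ g)
          map_smul' := fun s v => (LinearMap.congr_fun (hcomm s s.2 g) v).symm }
      map_one' := LinearMap.ext fun v => apply_one ρ v
      map_mul' := fun x y => LinearMap.ext fun v => apply_mul ρ x y v }
  have hρS : ∀ g v, ρS g v = ρ g v := fun _ _ => rfl
  have hne' : ∃ g, ρS g ≠ 1 := by
    obtain ⟨g, hg⟩ := hne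
    exact ⟨g, fun h => hg (LinearMap.ext fun v => LinearMap.congr_fun h v)⟩
  have hirr' : ∀ U : Submodule S V, (∀ u ∈ U, ρS a u ∈ U) → (∀ u ∈ U, ρS b u ∈ U) →
      U = ⊥ ∨ U = ⊤ := by
    intro U hUa hUb
    let U₀ : Submodule (ZMod p) V := AddSubgroup.toZModSubmodule p U.toAddSubgroup
    rcases hirr U₀ (fun g u hu => apply_mem_of_closure hgen ρ (U : Set V) (by
      rintro s (rfl | rfl) w hw
      · exact hUa w hw
      · exact hUb w hw) g u hu) with h | h
    · left
      rw [Submodule.eq_bot_iff]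
      intro u hu
      exact (Submodule.mem_bot (ZMod p)).1 (h ▸ (hu : u ∈ U₀))
    · right
      rw [Submodule.eq_top_iff']
      exact fun u => (h.symm ▸ Submodule.mem_top : u ∈ U₀)
  let μ : S := ⟨C, Algebra.self_mem_adjoin_singleton (ZMod p) C⟩
  obtain ⟨hμ, φ, hφa, hφb, hφ⟩ := exists_hom_sl2_of_pair ρS hgen ha hb hirr' hne' μ fun w => by
    show _ = C w
    simp [hC, hρS]
  refine ⟨S, inferInstance, inferInstance, inferInstance, μ, hμ, φ, hφa, hφb, fun g => ?_⟩
  rw [hφ g]
  exact ⟨fun h => LinearMap.ext fun v => LinearMap.congr_fun h v,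
    fun h => LinearMap.ext fun v => LinearMap.congr_fun h v⟩

/-- Two quadratic generators and an element not acting as a `p`-element: some irreducible constituent
gives a two dimensional representation in which it still does not. -/
theorem exists_hom_sl2 {V : Type u} [AddCommGroup V] [Module (ZMod p) V] [Finite V]
    {G : Type v} [Group G] [Finite G] (ρ : G →* Module.End (ZMod p) V) {a b : G}
    (hgen : Subgroup.closure ({a, b} : Set G) = ⊤) (ha : IsQuad ρ a) (hb : IsQuad ρ b)
    (g₀ : G) (hg₀ : ∀ k : ℕ, ρ (g₀ ^ p ^ k) ≠ 1) :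
    ∃ (K : Type u) (_ : Field K) (_ : Finite K) (_ : CharP K p) (c : K), c ≠ 0 ∧
      ∃ φ : G →* SpecialLinearGroup (Fin 2) K,
        φ a = upperE c ∧ φ b = lowerE 1 ∧ (∀ g, ρ g = 1 → φ g = 1) ∧
        ∀ k : ℕ, φ (g₀ ^ p ^ k) ≠ 1 := by
  induction hn : Nat.card V using Nat.strong_induction_on generalizing V with
  | _ n ih =>
  subst hn
  by_cases hirr : ∀ U : Submodule (ZMod p) V, (∀ g, ∀ u ∈ U, ρ g u ∈ U) → U = ⊥ ∨ U = ⊤
  · obtain ⟨K, i1, i2, i3, c, hc, φ, hφa, hφb, hφ⟩ :=
      exists_hom_sl2_irreducible ρ hgen ha hb ⟨g₀ ^ p ^ 0, hg₀ 0⟩ hirr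
    exact ⟨K, i1, i2, i3, c, hc, φ, hφa, hφb, fun g hg => (hφ g).2 hg,
      fun k h => hg₀ k ((hφ _).1 h)⟩
  push Not at hirr
  obtain ⟨U, hU, hUbot, hUtop⟩ := hirr
  let ρU : G →* Module.End (ZMod p) U :=
    { toFun := fun g => (ρ g).restrict (hU g)
      map_one' := LinearMap.ext fun u => Subtype.ext (apply_one ρ u)
      map_mul' := fun x y => LinearMap.ext fun u => Subtype.ext (apply_mul ρ x y u) }
  let ρQ : G →* Module.End (ZMod p) (V ⧸ U) :=
    { toFun := fun g => U.mapQ U (ρ g) (fun u hu => hU g u hu)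
      map_one' := LinearMap.ext fun q => Submodule.Quotient.induction_on U q fun v => by
        rw [Submodule.mapQ_apply, apply_one]; rfl
      map_mul' := fun x y => LinearMap.ext fun q => Submodule.Quotient.induction_on U q fun v => by
        rw [Submodule.mapQ_apply, apply_mul]; rfl }
  have hUlt : Nat.card U < Nat.card V := by
    refine lt_of_le_of_ne (Nat.card_le_card_of_injective _ U.injective_subtype) fun h => hUtop ?_
    have hb' := (Function.Injective.bijective_of_nat_card_le U.injective_subtype h.ge).2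
    rw [Submodule.eq_top_iff']
    intro v
    obtain ⟨u, rfl⟩ := hb' v
    exact u.2
  have hQlt : Nat.card (V ⧸ U) < Nat.card V := by
    refine lt_of_le_of_ne (Nat.card_le_card_of_surjective _ U.mkQ_surjective) fun h => hUbot ?_
    have hb' := (Function.Surjective.bijective_of_nat_card_le U.mkQ_surjective h.ge).1
    rw [← U.ker_mkQ, LinearMap.ker_eq_bot]
    exact hb'
  haveI : Finite (V ⧸ U) := Finite.of_surjective _ U.mkQ_surjective
  by_cases h1 : ∀ k : ℕ, ρU (g₀ ^ p ^ k) ≠ 1
  · obtain ⟨K, i1, i2, i3, c, hc, φ, hφa, hφb, hφ, hφ0⟩ := ih _ hUlt ρU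
      (fun u => Subtype.ext (ha u)) (fun u => Subtype.ext (hb u)) h1 rfl
    refine ⟨K, i1, i2, i3, c, hc, φ, hφa, hφb, fun g hg => hφ g (LinearMap.ext fun u => Subtype.ext ?_), hφ0⟩
    show ρ g u = u
    rw [hg]; rfl
  by_cases h2 : ∀ k : ℕ, ρQ (g₀ ^ p ^ k) ≠ 1
  · obtain ⟨K, i1, i2, i3, c, hc, φ, hφa, hφb, hφ, hφ0⟩ := ih _ hQlt ρQ
      (fun q => Submodule.Quotient.induction_on U q fun v => congrArg U.mkQ (ha v))
      (fun q => Submodule.Quotient.induction_on U q fun v => congrArg U.mkQ (hb v)) h2 rfl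
    refine ⟨K, i1, i2, i3, c, hc, φ, hφa, hφb, fun g hg => hφ g
      (LinearMap.ext fun q => Submodule.Quotient.induction_on U q fun v => ?_), hφ0⟩
    show U.mkQ (ρ g v) = U.mkQ v
    rw [hg]; rfl
  exfalso
  push Not at h1 h2
  obtain ⟨k, hk⟩ := h1
  obtain ⟨l, hl⟩ := h2
  set g := g₀ ^ p ^ (k + l) with hg
  have hgU : ρU g = 1 := by
    rw [hg, pow_add, pow_mul, map_pow, hk, one_pow]
  have hgQ : ρQ g = 1 := by
    rw [hg, pow_add, mul_comm, pow_mul, map_pow, hl, one_pow]
  have hquad : IsQuad ρ g := fun v => by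
    have hmem : ρ g v - v ∈ U := (Submodule.Quotient.eq U).1 (LinearMap.congr_fun hgQ (U.mkQ v))
    exact congrArg Subtype.val (LinearMap.congr_fun hgU ⟨_, hmem⟩)
  refine hg₀ (k + l + 1) ?_
  rw [pow_succ, pow_mul, ← hg]
  exact pow_char_of_isQuad (fun v => ZModModule.char_nsmul_eq_zero (n := p) v) hquad

end Descend

end Cfsg.Agent.Quadratic
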