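import Cfsg.Agent.Lib.Quadratic.TwoGen

/-!
# Two quadratic generators on an irreducible module: the natural module (namespace `Cfsg.Agent.Quadratic`)

As `exists_hom_sl2_of_pair`, `exists_hom_sl2_irreducible` of `TwoGen`, with the equivariant isomorphism onto
`K²`: `exists_equiv_of_pair`, `exists_equiv_irreducible`.
-/

set_option autoImplicit false
set_option linter.unusedSectionVars false

namespace Cfsg.Agent.Quadratic

open Cfsg Matrix

universe u v w

section Pair

variable {K : Type u} [Field K] {W : Type v} [AddCommGroup W] [Module K W]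
  {G : Type w} [Group G] [Finite G]

/-- Two quadratic operators without a common invariant subspace whose anticommutator is a scalar `μ`
act as `[[1, μ], [0, 1]]`, `[[1, 0], [1, 1]]` on a two dimensional space. -/
theorem exists_equiv_of_pair (ρ : G →* Module.End K W) {a b : G}
    (hgen : Subgroup.closure ({a, b} : Set G) = ⊤)
    (ha : IsQuad ρ a) (hb : IsQuad ρ b)
    (hirr : ∀ U : Submodule K W, (∀ u ∈ U, ρ a u ∈ U) → (∀ u ∈ U, ρ b u ∈ U) → U = ⊥ ∨ U = ⊤)
    (hne : ∃ g, ρ g ≠ 1) (μ : K)
    (hμ : ∀ w, (ρ a (ρ b w - w) - (ρ b w - w)) + (ρ b (ρ a w - w) - (ρ a w - w)) = μ • w) :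
    μ ≠ 0 ∧ ∃ φ : G →* SpecialLinearGroup (Fin 2) K,
      φ a = upperE μ ∧ φ b = lowerE 1 ∧
        ∃ e : W ≃ₗ[K] (Fin 2 → K), ∀ g v, e (ρ g v) = (φ g).1.mulVec (e v) := by
  classical
  have hnt : ∃ v : W, v ≠ 0 := by
    obtain ⟨g, hg⟩ := hne
    by_contra h
    push Not at h
    exact hg (LinearMap.ext fun v => by rw [h (ρ g v), h v, map_zero])
  obtain ⟨w, hw0, hwA⟩ : ∃ w : W, w ≠ 0 ∧ ρ a w = w := by
    obtain ⟨v, hv⟩ := hnt
    by_cases h : ρ a v = v
    · exact ⟨v, hv, h⟩
    · exact ⟨ρ a v - v, sub_ne_zero.2 h, ha v⟩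
  set w' := ρ b w - w with hw'
  have hbw' : ρ b w' = w' := hb w
  have haw' : ρ a w' = w' + μ • w := by
    have h := hμ w
    rw [hwA, sub_self, map_zero, sub_zero, add_zero, ← hw', sub_eq_iff_eq_add'] at h
    exact h
  have hbw : ρ b w = w + w' := (add_sub_cancel w (ρ b w)).symm
  have hspan : Submodule.span K {w, w'} = ⊤ := by
    refine (hirr _ ?_ ?_).resolve_left ?_
    · intro u hu
      obtain ⟨s, t, rfl⟩ := Submodule.mem_span_pair.1 hu
      rw [map_add, map_smul, map_smul, hwA, haw', smul_add, smul_smul]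
      exact Submodule.mem_span_pair.2 ⟨s + t * μ, t, by rw [add_smul]; abel⟩
    · intro u hu
      obtain ⟨s, t, rfl⟩ := Submodule.mem_span_pair.1 hu
      rw [map_add, map_smul, map_smul, hbw, hbw', smul_add]
      exact Submodule.mem_span_pair.2 ⟨s, s + t, by rw [add_smul]; abel⟩
    · intro h
      exact hw0 ((Submodule.mem_bot K).1 (h ▸ Submodule.subset_span (Set.mem_insert w _)))
  have hli : ∀ s t : K, s • w + t • w' = 0 → s = 0 ∧ t = 0 := by
    intro s t hst
    by_cases ht : t = 0
    · subst ht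
      rw [zero_smul, add_zero] at hst
      exact ⟨(smul_eq_zero.1 hst).resolve_right hw0, rfl⟩
    exfalso
    have hw'K : w' = (-t⁻¹ * s) • w := by
      have : t⁻¹ • (s • w + t • w') = 0 := by rw [hst, smul_zero]
      rw [smul_add, smul_smul, smul_smul, inv_mul_cancel₀ ht, one_smul, add_eq_zero_iff_neg_eq] at this
      rw [← this, neg_mul, neg_smul]
    set r := -t⁻¹ * s
    have hr : r • w' = 0 := by
      have h := hbw'
      rw [hw'K, map_smul, hbw, smul_add, add_eq_left] at h
      exact h
    have hw'0 : w' = 0 := by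
      rcases smul_eq_zero.1 hr with h | h
      · rw [hw'K, h, zero_smul]
      · exact h
    have hall : ∀ v : W, ∃ x : K, v = x • w := fun v => by
      have hv : v ∈ Submodule.span K {w, w'} := hspan ▸ Submodule.mem_top
      obtain ⟨x, y, rfl⟩ := Submodule.mem_span_pair.1 hv
      exact ⟨x, by rw [hw'0, smul_zero, add_zero]⟩
    obtain ⟨g, hg⟩ := hne
    apply hg
    ext v
    obtain ⟨x, rfl⟩ := hall v
    have hfix : ρ g w = w := by
      have := apply_mem_of_closure hgen ρ {w} (by
        rintro s (rfl | rfl) u hu <;> rw [Set.mem_singleton_iff] at hu ⊢ <;> subst hu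
        · exact hwA
        · exact sub_eq_zero.1 hw'0) g w rfl
      exact this
    rw [map_smul, hfix]
    rfl
  have hind : LinearIndependent K ![w, w'] := LinearIndependent.pair_iff.2 hli
  have hμ0 : μ ≠ 0 := by
    intro h
    rw [h, zero_smul, add_zero] at haw'
    have hw'0 : w' ≠ 0 := fun h0 => by
      have := hli 0 1 (by rw [h0, zero_smul, smul_zero, add_zero])
      exact one_ne_zero this.2
    rcases hirr (Submodule.span K {w'})
      (fun u hu => by
        obtain ⟨t, rfl⟩ := Submodule.mem_span_singleton.1 hu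
        rw [map_smul, haw']; exact hu)
      (fun u hu => by
        obtain ⟨t, rfl⟩ := Submodule.mem_span_singleton.1 hu
        rw [map_smul, hbw']; exact hu) with h1 | h1
    · exact hw'0 (Submodule.span_singleton_eq_bot.1 h1)
    · have : w ∈ Submodule.span K {w'} := h1 ▸ Submodule.mem_top
      obtain ⟨t, ht⟩ := Submodule.mem_span_singleton.1 this
      exact one_ne_zero (hli 1 (-t) (by rw [one_smul, neg_smul, ht, add_neg_cancel])).1
  let bas : Module.Basis (Fin 2) K W := Module.Basis.mk hind (by
    rw [Matrix.range_cons, Matrix.range_cons, Matrix.range_empty, Set.union_empty, Set.singleton_union,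
      hspan])
  have hb0 : bas 0 = w := by simp [bas]
  have hb1 : bas 1 = w' := by simp [bas]
  let M : G →* Matrix (Fin 2) (Fin 2) K :=
    (LinearMap.toMatrixAlgEquiv bas).toAlgHom.toMonoidHom.comp ρ
  have hMapp : ∀ g i j, M g i j = bas.repr (ρ g (bas j)) i := fun g i j => by
    simp [M, LinearMap.toMatrixAlgEquiv_apply]
  have e0 : bas.repr w = Finsupp.single 0 1 := by rw [← hb0, bas.repr_self]
  have e1 : bas.repr w' = Finsupp.single 1 1 := by rw [← hb1, bas.repr_self]
  have hMa : M a = !![1, μ; 0, 1] := by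
    ext i j
    fin_cases j
    · fin_cases i <;> simp [hMapp, hb0, hwA, e0]
    · fin_cases i <;> simp [hMapp, hb1, haw', e0, e1]
  have hMb : M b = !![1, 0; 1, 1] := by
    ext i j
    fin_cases j
    · fin_cases i <;> simp [hMapp, hb0, hbw, e0, e1]
    · fin_cases i <;> simp [hMapp, hb1, hbw', e1]
  have hdet : ∀ g, (M g).det = 1 := by
    intro g
    have hg : g ∈ Submonoid.closure ({a, b} : Set G) := by
      rw [← Subgroup.closure_toSubmonoid_of_finite, Subgroup.mem_toSubmonoid, hgen]
      exact Subgroup.mem_top g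
    induction hg using Submonoid.closure_induction with
    | mem x hx =>
      rcases hx with rfl | rfl
      · rw [hMa, Matrix.det_fin_two_of]; ring
      · rw [hMb, Matrix.det_fin_two_of]; ring
    | one => rw [map_one, Matrix.det_one]
    | mul x y _ _ hx hy => rw [map_mul, Matrix.det_mul, hx, hy, one_mul]
  let φ : G →* SpecialLinearGroup (Fin 2) K := MonoidHom.mk' (fun g => ⟨M g, hdet g⟩)
    fun x y => Subtype.ext (map_mul M x y)
  refine ⟨hμ0, φ, Subtype.ext hMa, Subtype.ext hMb, bas.equivFun, fun g v => ?_⟩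
  show _ = (LinearMap.toMatrixAlgEquiv bas (ρ g)).mulVec _
  exact (LinearMap.toMatrix_mulVec_repr bas bas (ρ g) v).symm

end Pair

section Descend

variable {p : ℕ} [Fact p.Prime]

/-- The action of `S ⊆ End V` as scalars commuting with `ρ`. -/
theorem exists_equiv_irreducible {V : Type u} [AddCommGroup V] [Module (ZMod p) V] [Finite V]
    {G : Type v} [Group G] [Finite G] (ρ : G →* Module.End (ZMod p) V) {a b : G}
    (hgen : Subgroup.closure ({a, b} : Set G) = ⊤) (ha : IsQuad ρ a) (hb : IsQuad ρ b)
    (hne : ∃ g, ρ g ≠ 1)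
    (hirr : ∀ U : Submodule (ZMod p) V, (∀ g, ∀ u ∈ U, ρ g u ∈ U) → U = ⊥ ∨ U = ⊤) :
    ∃ (K : Type u) (_ : Field K) (_ : Finite K) (_ : CharP K p) (c : K), c ≠ 0 ∧
      ∃ φ : G →* SpecialLinearGroup (Fin 2) K,
        φ a = upperE c ∧ φ b = lowerE 1 ∧
          ∃ e : V ≃+ (Fin 2 → K), ∀ g v, e (ρ g v) = (φ g).1.mulVec (e v) := by
  classical
  set C : Module.End (ZMod p) V := (ρ a - 1) * (ρ b - 1) + (ρ b - 1) * (ρ a - 1) with hC
  have hqa : (ρ a - 1) * (ρ a - 1) = 0 := by
    ext v
    simp [ha v]
  have hqb : (ρ b - 1) * (ρ b - 1) = 0 := by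
    ext v
    simp [hb v]
  have hCa : C * ρ a = ρ a * C := by
    have : C * (ρ a - 1) = (ρ a - 1) * C := by
      rw [hC, add_mul, mul_add, mul_assoc _ (ρ a - 1) (ρ a - 1), hqa, mul_zero, add_zero,
        ← mul_assoc (ρ a - 1) (ρ a - 1), hqa, zero_mul, zero_add, mul_assoc]
    rw [mul_sub, sub_mul, mul_one, one_mul, sub_left_inj] at this
    exact this
  have hCb : C * ρ b = ρ b * C := by
    have : C * (ρ b - 1) = (ρ b - 1) * C := by
      rw [hC, add_mul, mul_add, mul_assoc _ (ρ b - 1) (ρ b - 1), hqb, mul_zero, zero_add,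
        ← mul_assoc (ρ b - 1) (ρ b - 1), hqb, zero_mul, add_zero, mul_assoc]
    rw [mul_sub, sub_mul, mul_one, one_mul, sub_left_inj] at this
    exact this
  let S : Subalgebra (ZMod p) (Module.End (ZMod p) V) := Algebra.adjoin (ZMod p) {C}
  have hcomm : ∀ s ∈ S, ∀ g, s * ρ g = ρ g * s := by
    intro s hs g
    have hg : g ∈ Submonoid.closure ({a, b} : Set G) := by
      rw [← Subgroup.closure_toSubmonoid_of_finite, Subgroup.mem_toSubmonoid, hgen]
      exact Subgroup.mem_top g
    induction hg using Submonoid.closure_induction with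
    | mem x hx =>
      have hle : S ≤ Subalgebra.centralizer (ZMod p) {ρ x} :=
        Algebra.adjoin_le (Set.singleton_subset_iff.2 (Subalgebra.mem_centralizer_iff _ |>.2 (by
          intro y hy
          rw [Set.mem_singleton_iff] at hy
          subst hy
          rcases hx with rfl | rfl
          · exact hCa.symm
          · exact hCb.symm)))
      exact (Subalgebra.mem_centralizer_iff _ |>.1 (hle hs) (ρ x) rfl).symm
    | one => rw [map_one, mul_one, one_mul]
    | mul x y _ _ hx hy => rw [map_mul, ← mul_assoc, hx, mul_assoc, hy, mul_assoc]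
  haveI : Nontrivial V := by
    by_contra h
    rw [not_nontrivial_iff_subsingleton] at h
    obtain ⟨g, hg⟩ := hne
    exact hg (LinearMap.ext fun v => Subsingleton.elim _ _)
  have hinj : ∀ s : S, s ≠ 0 → Function.Injective (s : Module.End (ZMod p) V) := by
    intro s hs
    rw [← LinearMap.ker_eq_bot]
    refine (hirr _ fun g u hu => ?_).resolve_right fun h => hs (Subtype.ext (LinearMap.ker_eq_top.1 h))
    rw [LinearMap.mem_ker] at hu ⊢
    rw [show (s : Module.End (ZMod p) V) (ρ g u) = ((s : Module.End (ZMod p) V) * ρ g) u from rfl,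
      hcomm s s.2 g, Module.End.mul_apply, hu, map_zero]
  haveI : Finite (Module.End (ZMod p) V) := Finite.of_injective _ (DFunLike.coe_injective)
  letI : CommRing S :=
    { (inferInstance : Ring S) with
      mul_comm := fun x y => Subtype.ext
        (Algebra.commute_of_mem_adjoin_singleton_of_commute y.2
          (Algebra.commute_of_mem_adjoin_self x.2).symm).eq }
  haveI : NoZeroDivisors S := ⟨fun {x y} hxy => by
    by_contra h
    push Not at h
    apply h.2
    refine Subtype.ext (LinearMap.ext fun v => hinj x h.1 ?_)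
    simpa using LinearMap.congr_fun (congrArg Subtype.val hxy) v⟩
  haveI : Nontrivial S := ⟨0, 1, fun h => by
    obtain ⟨v, hv⟩ := exists_ne (0 : V)
    exact hv (LinearMap.congr_fun (congrArg Subtype.val h).symm v)⟩
  haveI : IsDomain S := NoZeroDivisors.to_isDomain S
  letI : Field S := (Finite.isField_of_domain S).toField
  haveI : CharP S p := charP_of_injective_algebraMap (algebraMap (ZMod p) S).injective p
  let ρS : G →* Module.End S V :=
    { toFun := fun g =>
        { toFun := ρ g
          map_add' := map_add (ρ g)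
          map_smul' := fun s v => (LinearMap.congr_fun (hcomm s s.2 g) v).symm }
      map_one' := LinearMap.ext fun v => apply_one ρ v
      map_mul' := fun x y => LinearMap.ext fun v => apply_mul ρ x y v }
  have hρS : ∀ g v, ρS g v = ρ g v := fun _ _ => rfl
  have hne' : ∃ g, ρS g ≠ 1 := by
    obtain ⟨g, hg⟩ := hne
    exact ⟨g, fun h => hg (LinearMap.ext fun v => LinearMap.congr_fun h v)⟩
  have hirr' : ∀ U : Submodule S V, (∀ u ∈ U, ρS a u ∈ U) → (∀ u ∈ U, ρS b u ∈ U) →
      U = ⊥ ∨ U = ⊤ := by
    intro U hUa hUb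
    let U₀ : Submodule (ZMod p) V := AddSubgroup.toZModSubmodule p U.toAddSubgroup
    rcases hirr U₀ (fun g u hu => apply_mem_of_closure hgen ρ (U : Set V) (by
      rintro s (rfl | rfl) w hw
      · exact hUa w hw
      · exact hUb w hw) g u hu) with h | h
    · left
      rw [Submodule.eq_bot_iff]
      intro u hu
      exact (Submodule.mem_bot (ZMod p)).1 (h ▸ (hu : u ∈ U₀))
    · right
      rw [Submodule.eq_top_iff']
      exact fun u => (h.symm ▸ Submodule.mem_top : u ∈ U₀)
  let μ : S := ⟨C, Algebra.self_mem_adjoin_singleton (ZMod p) C⟩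
  obtain ⟨hμ, φ, hφa, hφb, e, he⟩ := exists_equiv_of_pair ρS hgen ha hb hirr' hne' μ fun w => by
    show _ = C w
    simp [hC, hρS]
  exact ⟨S, inferInstance, inferInstance, inferInstance, μ, hμ, φ, hφa, hφb, e.toAddEquiv, fun g v => he g v⟩

end Descend

end Cfsg.Agent.Quadratic
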