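import Cfsg.Agent.Lib.Quadratic.TwoGen

/-!
# Quadratic action inside a group (namespace `Cfsg.Agent.Quadratic`)

* `commute_of_quad`: `[V, a, a] = 1` in terms of elements
* `pow_mem_centralizer_of_quad`: `a ^ p` centralises the elementary abelian group `V`
* `exists_not_pElement`: a group that is not a `p`-group has an element that is not a `p`-element
* `exists_hom_sl2_of_ambient`: two quadratic generators of `H ≤ N(V)` give `φ : H →* SL₂(K)`
* `exists_irreducible_constituent`: an irreducible constituent keeping a non-`p`-element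
-/

set_option autoImplicit false
set_option linter.unusedSectionVars false

namespace Cfsg.Agent.Quadratic

open Cfsg
open scoped commutatorElement

universe u v

variable {p : ℕ} [Fact p.Prime]

theorem exists_not_pElement {H : Type*} [Group H] (h : ¬ IsPGroup p H) :
    ∃ g : H, ∀ k : ℕ, g ^ p ^ k ≠ 1 := by
  by_contra hc
  push Not at hc
  exact h hc

section Ambient

variable {G : Type u} [Group G]

theorem commute_of_quad {V : Subgroup G} {a : G}
    (h : ⁅⁅V, Subgroup.zpowers a⁆, Subgroup.zpowers a⁆ = ⊥) :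
    ∀ v ∈ V, Commute a (a * v * a⁻¹ * v⁻¹) := by
  intro v hv
  have hmem : a * v * a⁻¹ * v⁻¹ ∈ ⁅V, Subgroup.zpowers a⁆ := by
    rw [Subgroup.commutator_comm]
    exact Subgroup.commutator_mem_commutator (Subgroup.mem_zpowers a) hv
  exact Subgroup.mem_centralizer_iff.1
    (Subgroup.commutator_eq_bot_iff_le_centralizer.1 h hmem) a (Subgroup.mem_zpowers a)

theorem commute_of_quad_conj {V : Subgroup G} {a g : G} (hg : g ∈ Subgroup.normalizer (V : Set G))
    (h : ∀ v ∈ V, Commute a (a * v * a⁻¹ * v⁻¹)) :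
    ∀ v ∈ V, Commute (g * a * g⁻¹) ((g * a * g⁻¹) * v * (g * a * g⁻¹)⁻¹ * v⁻¹) := by
  intro v hv
  have hw : g⁻¹ * v * g ∈ V := by
    simpa using (Subgroup.mem_normalizer_iff.1 (inv_mem hg) v).1 hv
  have h1 := (h _ hw).map (MulAut.conj g).toMonoidHom
  simp only [MulEquiv.coe_toMonoidHom, MulAut.conj_apply] at h1
  have e : g * (a * (g⁻¹ * v * g) * a⁻¹ * (g⁻¹ * v * g)⁻¹) * g⁻¹ =
      g * a * g⁻¹ * v * (g * a * g⁻¹)⁻¹ * v⁻¹ := by group
  rwa [e] at h1

theorem pow_mem_centralizer_of_quad {V : Subgroup G} (hV : IsElementaryAbelian p V) {a : G}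
    (ha : a ∈ Subgroup.normalizer (V : Set G)) (h : ∀ v ∈ V, Commute a (a * v * a⁻¹ * v⁻¹)) :
    a ^ p ∈ Subgroup.centralizer (V : Set G) := by
  refine Subgroup.mem_centralizer_iff.2 fun v hv => ?_
  set c := a * v * a⁻¹ * v⁻¹ with hc
  have hcV : c ∈ V := mul_mem ((Subgroup.mem_normalizer_iff.1 ha v).1 hv) (inv_mem hv)
  have hac : Commute a c := h v hv
  have hrec : ∀ n : ℕ, a ^ n * v * (a ^ n)⁻¹ = c ^ n * v := by
    intro n
    induction n with
    | zero => simp
    | succ n ih =>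
      calc a ^ (n + 1) * v * (a ^ (n + 1))⁻¹ = a * (a ^ n * v * (a ^ n)⁻¹) * a⁻¹ := by
            rw [pow_succ']; group
        _ = (a * c ^ n) * v * a⁻¹ := by rw [ih]; group
        _ = c ^ n * (a * v * a⁻¹) := by rw [(hac.pow_right n).eq]; group
        _ = c ^ n * (c * v) := by rw [hc]; group
        _ = c ^ (n + 1) * v := by rw [pow_succ]; group
  have := hrec p
  rw [hV.2 c hcV, one_mul, mul_inv_eq_iff_eq_mul] at this
  exact this.symm

/-- Two quadratic generators of a subgroup normalising an elementary abelian `p`-group. -/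
theorem exists_hom_sl2_of_ambient [Finite G] {V H : Subgroup G} (hV : IsElementaryAbelian p V)
    (hHV : H ≤ Subgroup.normalizer (V : Set G)) {a b : H}
    (hgen : Subgroup.closure ({a, b} : Set H) = ⊤)
    (ha : ∀ v ∈ V, Commute (a : G) ((a : G) * v * (a : G)⁻¹ * v⁻¹))
    (hb : ∀ v ∈ V, Commute (b : G) ((b : G) * v * (b : G)⁻¹ * v⁻¹))
    (g₀ : H) (hg₀ : ∀ k : ℕ, (g₀ : G) ^ p ^ k ∉ Subgroup.centralizer (V : Set G)) :
    ∃ (K : Type u) (_ : Field K) (_ : Finite K) (_ : CharP K p) (c : K), c ≠ 0 ∧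
      ∃ φ : H →* Matrix.SpecialLinearGroup (Fin 2) K,
        φ a = upperE c ∧ φ b = lowerE 1 ∧
        (∀ h : H, (h : G) ∈ Subgroup.centralizer (V : Set G) → φ h = 1) ∧
        ∀ k : ℕ, φ (g₀ ^ p ^ k) ≠ 1 := by
  letI : CommGroup V := { mul_comm := fun u v => hV.1.1.1 u v }
  letI : Module (ZMod p) (Additive V) :=
    AddCommGroup.zmodModule (n := p) fun v =>
      congrArg Additive.ofMul (Subtype.ext (hV.2 _ (Additive.toMul v).2) : (Additive.toMul v : V) ^ p = 1)
  let θ : H →* MulAut V := V.normalizerMonoidHom.comp (Subgroup.inclusion hHV)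
  have hθ : ∀ (h : H) (x : V), ((θ h x : V) : G) = h * x * (h : G)⁻¹ := fun h x => rfl
  let ρ : H →* Module.End (ZMod p) (Additive V) :=
    { toFun := fun u => (θ u).toMonoidHom.toAdditive.toZModLinearMap p
      map_one' := LinearMap.ext fun v => by simp
      map_mul' := fun u w => LinearMap.ext fun v => by simp }
  have happ : ∀ u v, ρ u v = Additive.ofMul (θ u (Additive.toMul v)) := fun _ _ => rfl
  have hquad : ∀ u : H, (∀ v ∈ V, Commute (u : G) ((u : G) * v * (u : G)⁻¹ * v⁻¹)) → IsQuad ρ u := by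
    intro u hu v
    apply Additive.toMul.injective
    rw [happ, happ]
    simp only [toMul_sub, toMul_ofMul, div_eq_mul_inv]
    refine Subtype.ext ?_
    rw [hθ, Subgroup.coe_mul, Subgroup.coe_inv, hθ, (hu _ (Additive.toMul v).2).eq, mul_inv_cancel_right]
  have hker : ∀ u : H, ρ u = 1 ↔ (u : G) ∈ Subgroup.centralizer (V : Set G) := by
    intro u
    constructor
    · intro h
      refine Subgroup.mem_centralizer_iff.2 fun x hx => ?_
      have h1 : θ u ⟨x, hx⟩ = ⟨x, hx⟩ :=
        congrArg Additive.toMul (LinearMap.congr_fun h (Additive.ofMul (⟨x, hx⟩ : V)))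
      have h2 := congrArg Subtype.val h1
      rw [hθ] at h2
      exact (mul_inv_eq_iff_eq_mul.1 h2).symm
    · intro h
      refine LinearMap.ext fun v => ?_
      apply Additive.toMul.injective
      rw [happ]
      refine Subtype.ext ?_
      rw [toMul_ofMul, hθ, ← Subgroup.mem_centralizer_iff.1 h _ (Additive.toMul v).2,
        mul_inv_cancel_right]
      rfl
  obtain ⟨K, i1, i2, i3, c, hc, φ, hφa, hφb, hφ, hφ0⟩ := exists_hom_sl2 ρ hgen (hquad a ha) (hquad b hb)
    g₀ (fun k h => hg₀ k (by simpa using (hker _).1 h))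
  exact ⟨K, i1, i2, i3, c, hc, φ, hφa, hφb, fun h hh => hφ h ((hker h).2 hh), hφ0⟩

end Ambient

section Constituent

variable {k : Type*} [Field k] [CharP k p] {G : Type*} [Group G]

/-- Some irreducible constituent keeps an element which does not act as a `p`-element. -/
theorem exists_irreducible_constituent {V : Type u} [AddCommGroup V] [Module k V] [Finite V]
    (ρ : G →* Module.End k V) (g₀ : G) (hg₀ : ∀ n : ℕ, ρ (g₀ ^ p ^ n) ≠ 1) :
    ∃ (W : Type u) (_ : AddCommGroup W) (_ : Module k W) (_ : Finite W) (σ : G →* Module.End k W),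
      (∀ U : Submodule k W, (∀ g, ∀ u ∈ U, σ g u ∈ U) → U = ⊥ ∨ U = ⊤) ∧
      (∀ g, IsQuad ρ g → IsQuad σ g) ∧ (∀ g, ρ g = 1 → σ g = 1) ∧
      ∀ n : ℕ, σ (g₀ ^ p ^ n) ≠ 1 := by
  induction hn : Nat.card V using Nat.strong_induction_on generalizing V with
  | _ n ih =>
  subst hn
  by_cases hirr : ∀ U : Submodule k V, (∀ g, ∀ u ∈ U, ρ g u ∈ U) → U = ⊥ ∨ U = ⊤
  · exact ⟨V, inferInstance, inferInstance, inferInstance, ρ, hirr, fun _ h => h, fun _ h => h, hg₀⟩
  push Not at hirr
  obtain ⟨U, hU, hUbot, hUtop⟩ := hirr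
  let ρU : G →* Module.End k U :=
    { toFun := fun g => (ρ g).restrict (hU g)
      map_one' := LinearMap.ext fun u => Subtype.ext (apply_one ρ u)
      map_mul' := fun x y => LinearMap.ext fun u => Subtype.ext (apply_mul ρ x y u) }
  let ρQ : G →* Module.End k (V ⧸ U) :=
    { toFun := fun g => U.mapQ U (ρ g) (fun u hu => hU g u hu)
      map_one' := LinearMap.ext fun q => Submodule.Quotient.induction_on U q fun v => by
        rw [Submodule.mapQ_apply, apply_one]; rfl
      map_mul' := fun x y => LinearMap.ext fun q => Submodule.Quotient.induction_on U q fun v => by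
        rw [Submodule.mapQ_apply, apply_mul]; rfl }
  have hUlt : Nat.card U < Nat.card V := by
    refine lt_of_le_of_ne (Nat.card_le_card_of_injective _ U.injective_subtype) fun h => hUtop ?_
    have hb' := (Function.Injective.bijective_of_nat_card_le U.injective_subtype h.ge).2
    rw [Submodule.eq_top_iff']
    intro v
    obtain ⟨u, rfl⟩ := hb' v
    exact u.2
  have hQlt : Nat.card (V ⧸ U) < Nat.card V := by
    refine lt_of_le_of_ne (Nat.card_le_card_of_surjective _ U.mkQ_surjective) fun h => hUbot ?_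
    have hb' := (Function.Surjective.bijective_of_nat_card_le U.mkQ_surjective h.ge).1
    rw [← U.ker_mkQ, LinearMap.ker_eq_bot]
    exact hb'
  haveI : Finite (V ⧸ U) := Finite.of_surjective _ U.mkQ_surjective
  by_cases h1 : ∀ n : ℕ, ρU (g₀ ^ p ^ n) ≠ 1
  · obtain ⟨W, i1, i2, i3, σ, hσ, hσq, hσk, hσ0⟩ := ih _ hUlt ρU h1 rfl
    exact ⟨W, i1, i2, i3, σ, hσ, fun g hg => hσq g fun u => Subtype.ext (hg u),
      fun g hg => hσk g (LinearMap.ext fun u => Subtype.ext (LinearMap.congr_fun hg u)), hσ0⟩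
  by_cases h2 : ∀ n : ℕ, ρQ (g₀ ^ p ^ n) ≠ 1
  · obtain ⟨W, i1, i2, i3, σ, hσ, hσq, hσk, hσ0⟩ := ih _ hQlt ρQ h2 rfl
    exact ⟨W, i1, i2, i3, σ, hσ,
      fun g hg => hσq g fun q => Submodule.Quotient.induction_on U q fun v => congrArg U.mkQ (hg v),
      fun g hg => hσk g (LinearMap.ext fun q => Submodule.Quotient.induction_on U q fun v =>
        congrArg U.mkQ (LinearMap.congr_fun hg v)), hσ0⟩
  exfalso
  push Not at h1 h2
  obtain ⟨m, hm⟩ := h1
  obtain ⟨l, hl⟩ := h2
  set g := g₀ ^ p ^ (m + l) with hg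
  have hgU : ρU g = 1 := by rw [hg, pow_add, pow_mul, map_pow, hm, one_pow]
  have hgQ : ρQ g = 1 := by rw [hg, pow_add, mul_comm, pow_mul, map_pow, hl, one_pow]
  have hquad : IsQuad ρ g := fun v => by
    have hmem : ρ g v - v ∈ U := (Submodule.Quotient.eq U).1 (LinearMap.congr_fun hgQ (U.mkQ v))
    exact congrArg Subtype.val (LinearMap.congr_fun hgU ⟨_, hmem⟩)
  refine hg₀ (m + l + 1) ?_
  rw [pow_succ, pow_mul, ← hg]
  refine pow_char_of_isQuad (fun v => ?_) hquad
  rw [← Nat.cast_smul_eq_nsmul k, CharP.cast_eq_zero, zero_smul]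

end Constituent

end Cfsg.Agent.Quadratic
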